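import Mathlib
import Cfsg.Agent.Lib.Coprime.GlauberStep

/-!
# The Glauberman correspondence for `p`-groups
-/

set_option autoImplicit false
set_option linter.style.haveILetI false
set_option linter.unusedSectionVars false
set_option linter.unusedSimpArgs false
set_option linter.unnecessarySimpa false

open scoped ComplexConjugate
open Cfsg Cfsg.Agent.Lib.Char

namespace Cfsg.Agent.Lib.Coprime

universe u

section Fix

variable {P Y : Type u} [Group P] [Group Y]

/-- The fixed points of an action. -/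
def fixSub (φ : P →* MulAut Y) : Subgroup Y where
  carrier := {y | ∀ a, φ a y = y}
  mul_mem' := by
    intro x y hx hy a
    rw [map_mul, hx a, hy a]
  one_mem' := fun a => map_one (φ a)
  inv_mem' := by
    intro x hx a
    rw [map_inv, hx a]

theorem mem_fixSub {φ : P →* MulAut Y} {y : Y} : y ∈ fixSub φ ↔ ∀ a, φ a y = y := Iff.rfl

/-- Restriction of an action to an invariant subgroup. -/
def restrictHom (φ : P →* MulAut Y) (S : Subgroup Y) (hS : ∀ a, ∀ y ∈ S, φ a y ∈ S) : P →* MulAut S :=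
  MonoidHom.mk' (fun a =>
    { toFun := fun y => ⟨φ a y, hS a y y.2⟩
      invFun := fun y => ⟨φ a⁻¹ y, hS a⁻¹ y y.2⟩
      left_inv := fun y => Subtype.ext (by
        show φ a⁻¹ (φ a y) = y
        rw [← MulAut.mul_apply, ← map_mul]
        simp)
      right_inv := fun y => Subtype.ext (by
        show φ a (φ a⁻¹ y) = y
        rw [← MulAut.mul_apply, ← map_mul]
        simp)
      map_mul' := fun x y => Subtype.ext (by
        show φ a (x * y) = φ a x * φ a y
        simp) })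
    (fun a b => by
      ext y
      show φ (a * b) y = φ a (φ b y)
      simp)

theorem restrictHom_apply (φ : P →* MulAut Y) (S : Subgroup Y) (hS : ∀ a, ∀ y ∈ S, φ a y ∈ S) (a : P)
    (y : S) : ((restrictHom φ S hS a y : S) : Y) = φ a y := rfl

end Fix

section Gl

variable {Y C Y₁ : Type u} [Group Y] [Group C] [Group Y₁] [Fintype C] [Fintype Y₁]

/-- Transport of the relation along automorphisms. -/
theorem IsGlauber.comp {p : ℕ} {j : C →* Y} {χ : Y → ℂ} {β : IrrCharacter C} (h : IsGlauber p j χ β)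
    (a : Y ≃* Y) (b : C ≃* C) (hab : ∀ c, j (b c) = a (j c)) :
    IsGlauber p j (χ ∘ a) ⟨(β : C → ℂ) ∘ b, isIrr_comp_equiv b β.2⟩ := by
  have h1 : ∀ ψ : C → ℂ, classInner (fun c => (χ ∘ a) (j c)) (ψ ∘ b) =
      classInner (fun c => χ (j c)) ψ := by
    intro ψ
    have h2 : (fun c => (χ ∘ a) (j c)) = (fun c => χ (j c)) ∘ b := by
      funext c
      simp [hab]
    rw [h2, classInner_comp_equiv]
  refine ⟨?_, fun β' hβ' => ?_⟩
  · have h2 := h.unit
    rw [← h1] at h2
    exact h2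
  · have h3 : (⟨(β' : C → ℂ) ∘ b.symm, isIrr_comp_equiv b.symm β'.2⟩ : IrrCharacter C) ≠ β := by
      intro h4
      apply hβ'
      apply Subtype.ext
      rw [← h4]
      funext c
      simp
    have h4 := h.dvd _ h3
    rw [← h1] at h4
    have h5 : (fun c : C => (β' : C → ℂ) c) = ((β' : C → ℂ) ∘ b.symm) ∘ b := by
      funext c
      simp
    simp only at h4
    rw [← h5] at h4
    exact h4

/-- Transitivity of the relation. -/
theorem IsGlauber.trans {p : ℕ} {j₁ : Y₁ →* Y} {j₂ : C →* Y₁} {χ : Y → ℂ} {θ : IrrCharacter Y₁}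
    {β : IrrCharacter C} (hχ : IsCharacter Y χ) (h₁ : IsGlauber p j₁ χ θ) (h₂ : IsGlauber p j₂ (θ : Y₁ → ℂ) β) :
    IsGlauber p (j₁.comp j₂) χ β := by
  classical
  have hφ : IsCharacter Y₁ (fun y => χ (j₁ y)) := IsCharacter.comp j₁ hχ
  obtain ⟨c, hc⟩ := character_eq_sum_nat hφ
  have hcoef : ∀ θ' : IrrCharacter Y₁, classInner (fun y => χ (j₁ y)) (θ' : Y₁ → ℂ) = (c θ' : ℂ) := by
    intro θ'
    rw [hc]
    simp only [classInner_sum_left, classInner_smul_left]
    rw [Finset.sum_eq_single θ']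
    · rw [classInner_irr_self θ'.2, mul_one]
    · intro θ'' _ hne
      rw [classInner_irr_of_ne θ''.2 θ'.2 (fun h => hne (Subtype.ext h)), mul_zero]
    · intro h
      exact absurd (Finset.mem_univ _) h
  have hexp : ∀ β' : C → ℂ, classInner (fun d => χ (j₁ (j₂ d))) β' =
      ∑ θ' : IrrCharacter Y₁, (c θ' : ℂ) * classInner (fun d => (θ' : Y₁ → ℂ) (j₂ d)) β' := by
    intro β'
    have h1 : (fun d => χ (j₁ (j₂ d))) =
        ∑ θ' : IrrCharacter Y₁, (c θ' : ℂ) • (fun d => (θ' : Y₁ → ℂ) (j₂ d)) := by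
      funext d
      have h2 := congrFun hc (j₂ d)
      simp only [Finset.sum_apply, Pi.smul_apply] at h2 ⊢
      exact h2
    rw [h1]
    simp only [classInner_sum_left, classInner_smul_left]
  -- integer values
  have hint : ∀ (θ' : IrrCharacter Y₁) (β' : IrrCharacter C), ∃ n : ℕ,
      classInner (fun d => (θ' : Y₁ → ℂ) (j₂ d)) (β' : C → ℂ) = n := fun θ' β' =>
    classInner_isCharacter_nat (IsCharacter.comp j₂ (IsIrrCharacter.isCharacter θ'.2))
      (IsIrrCharacter.isCharacter β'.2)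
  choose n hn using hint
  have hd : ∀ θ', θ' ≠ θ → ∃ t : ℤ, (c θ' : ℂ) = (p : ℂ) * t := by
    intro θ' hne
    obtain ⟨t, ht⟩ := h₁.dvd θ' hne
    exact ⟨t, by rw [← hcoef, ht]⟩
  choose! dd hdd using hd
  obtain ⟨t₁, ε₁, hε₁, h1⟩ := h₁.unit
  rw [hcoef] at h1
  -- the sum splits
  let T : IrrCharacter C → ℤ := fun β' => ∑ θ' ∈ Finset.univ.erase θ, dd θ' * (n θ' β' : ℤ) + t₁ * (n θ β' : ℤ)
  have hsplit : ∀ β' : IrrCharacter C, classInner (fun d => χ (j₁ (j₂ d))) (β' : C → ℂ) =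
      (p : ℂ) * ((T β' : ℤ) : ℂ) +
        (ε₁ : ℂ) * classInner (fun d => (θ : Y₁ → ℂ) (j₂ d)) (β' : C → ℂ) := by
    intro β'
    simp only [T]
    rw [hexp, ← Finset.add_sum_erase _ _ (Finset.mem_univ θ), h1, hn θ β']
    push_cast
    rw [mul_add, Finset.mul_sum]
    have h2 : ∀ θ' ∈ Finset.univ.erase θ, (c θ' : ℂ) * classInner (fun d => (θ' : Y₁ → ℂ) (j₂ d)) (β' : C → ℂ) =
        (p : ℂ) * ((dd θ' : ℂ) * (n θ' β' : ℂ)) := by
      intro θ' hθ'
      rw [hdd θ' (Finset.ne_of_mem_erase hθ'), hn θ' β']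
      ring
    rw [Finset.sum_congr rfl h2]
    ring
  refine ⟨?_, fun β' hβ' => ?_⟩
  · obtain ⟨t₂, ε₂, hε₂, h2⟩ := h₂.unit
    show IsUnitP p (classInner (fun d => χ (j₁ (j₂ d))) (β : C → ℂ))
    rw [hsplit, h2]
    refine ⟨T β + ε₁ * t₂, ε₁ * ε₂, ?_, ?_⟩
    · rcases hε₁ with rfl | rfl <;> rcases hε₂ with rfl | rfl <;> simp
    · push_cast
      ring
  · obtain ⟨t₂, h2⟩ := h₂.dvd β' hβ'
    show IsDvdP p (classInner (fun d => χ (j₁ (j₂ d))) (β' : C → ℂ))
    rw [hsplit, h2]
    refine ⟨T β' + ε₁ * t₂, ?_⟩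
    push_cast
    ring

end Gl

section Quot

variable {P Y : Type u} [Group P] [Group Y] (φ : P →* MulAut Y) (Z : Subgroup P)

/-- The fixed points of a subgroup of the acting group. -/
abbrev fixZ : Subgroup Y := fixSub (φ.comp Z.subtype)

variable [hZ : Z.Normal]

theorem fixZ_inv (a : P) (y : Y) (hy : y ∈ fixZ φ Z) : φ a y ∈ fixZ φ Z := by
  rintro ⟨z, hz⟩
  have h1 : a⁻¹ * z * a ∈ Z := by
    have := hZ.conj_mem z hz a⁻¹
    simpa using this
  have h2 := hy ⟨_, h1⟩
  have h3 : φ (a⁻¹ * z * a) y = y := h2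
  show φ z (φ a y) = φ a y
  conv_rhs => rw [← h3]
  simp only [map_mul, map_inv, MulAut.mul_apply]
  simp

/-- The action of the quotient on the fixed points of the normal subgroup. -/
def quotAct : P ⧸ Z →* MulAut (fixZ φ Z) :=
  QuotientGroup.lift Z (restrictHom φ (fixZ φ Z) (fixZ_inv φ Z)) (by
    intro z hz
    ext y
    exact y.2 ⟨z, hz⟩)

theorem quotAct_mk (a : P) (y : fixZ φ Z) :
    ((quotAct φ Z (a : P ⧸ Z) y : fixZ φ Z) : Y) = φ a y := rfl

theorem quotAct_mk' (a : P) : quotAct φ Z (a : P ⧸ Z) = restrictHom φ (fixZ φ Z) (fixZ_inv φ Z) a := rfl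

theorem fix_quot_iff (y : fixZ φ Z) : (∀ a, quotAct φ Z a y = y) ↔ ∀ a, φ a y = y := by
  constructor
  · intro h a
    have := congrArg Subtype.val (h (a : P ⧸ Z))
    exact this
  · intro h a
    obtain ⟨a, rfl⟩ := QuotientGroup.mk_surjective a
    exact Subtype.ext (h a)

end Quot

section Main

variable {p : ℕ}

theorem exists_central_order_p [hp : Fact p.Prime] {P : Type u} [Group P] [Finite P] [Nontrivial P]
    (hP : IsPGroup p P) : ∃ Z : Subgroup P, Z.Normal ∧ Nat.card Z = p := by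
  classical
  haveI := hP.center_nontrivial
  have hPc : IsPGroup p (Subgroup.center P) := hP.to_subgroup _
  obtain ⟨n, hn, hcard⟩ := hPc.nontrivial_iff_card.mp inferInstance
  have hdvd : p ∣ Nat.card (Subgroup.center P) := by
    rw [hcard]
    exact dvd_pow_self p hn.ne'
  obtain ⟨z, hz⟩ := exists_prime_orderOf_dvd_card' (G := Subgroup.center P) p hdvd
  refine ⟨Subgroup.zpowers (z : P), ⟨?_⟩, ?_⟩
  · rintro _ ⟨k, rfl⟩ g
    have h1 : g * (z : P) ^ k * g⁻¹ = (z : P) ^ k := by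
      have h0 : Commute g (z : P) := Subgroup.mem_center_iff.mp z.2 g
      have h2 : Commute g ((z : P) ^ k) := h0.zpow_right k
      rw [h2.eq]
      group
    show g * (z : P) ^ k * g⁻¹ ∈ _
    rw [h1]
    exact ⟨k, rfl⟩
  · rw [Nat.card_zpowers, Subgroup.orderOf_coe, hz]

/-- The correspondence is compatible with passing to invariant characters. -/
theorem glauber_inv_of_inv {P Y : Type u} [Group P] [Group Y] [Fintype Y] (φ : P →* MulAut Y) (Z : Subgroup P) [Z.Normal]
    [Fintype (fixZ φ Z)] (hp : p.Prime) {χ : Y → ℂ} (hinv : IsInv φ χ) {θ : IrrCharacter (fixZ φ Z)}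
    (h : IsGlauber p (fixZ φ Z).subtype χ θ) : IsInv (quotAct φ Z) (θ : fixZ φ Z → ℂ) := by
  intro a y
  obtain ⟨a, rfl⟩ := QuotientGroup.mk_surjective a
  have h1 := h.comp (φ a) (restrictHom φ (fixZ φ Z) (fixZ_inv φ Z) a) (fun c => rfl)
  have h2 : χ ∘ φ a = χ := funext (hinv a)
  rw [h2] at h1
  have h3 := h1.unique hp h
  exact congrFun (congrArg Subtype.val h3) y

/-- The correspondence for the trivial group. -/
theorem trivial_corr {P Y C : Type u} [Group P] [Group Y] [Group C] [Subsingleton P] [Fintype Y] [Fintype C]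
    (φ : P →* MulAut Y) {j : C →* Y} (hj : Function.Injective j) (hr : ∀ y, y ∈ j.range ↔ ∀ a, φ a y = y) :
    ∃ f : IrrInv φ ≃ IrrCharacter C, ∀ χ : IrrInv φ, IsGlauber p j (χ.1 : Y → ℂ) (f χ) := by
  classical
  have hone : ∀ a : P, φ a = 1 := by
    intro a
    rw [Subsingleton.elim a 1, map_one]
  have hsurj : Function.Surjective j := by
    intro y
    exact (hr y).mpr (fun a => by rw [hone]; rfl)
  let e : C ≃* Y := MulEquiv.ofBijective j ⟨hj, hsurj⟩
  let f : IrrInv φ ≃ IrrCharacter C :=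
    { toFun := fun χ => ⟨(χ.1 : Y → ℂ) ∘ e, isIrr_comp_equiv e χ.1.2⟩
      invFun := fun β => ⟨⟨(β : C → ℂ) ∘ e.symm, isIrr_comp_equiv e.symm β.2⟩, fun a y => by
        rw [hone]; rfl⟩
      left_inv := fun χ => by
        apply Subtype.ext
        apply Subtype.ext
        funext y
        simp
      right_inv := fun β => by
        apply Subtype.ext
        funext y
        simp }
  refine ⟨f, fun χ => ⟨⟨0, 1, Or.inl rfl, ?_⟩, fun β' hβ' => ⟨0, ?_⟩⟩⟩
  · have h1 : classInner (fun c => (χ.1 : Y → ℂ) (j c)) ((f χ : IrrCharacter C) : C → ℂ) = 1 :=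
      classInner_irr_self (f χ).2
    rw [h1]
    simp
  · have h1 : classInner (fun c => (χ.1 : Y → ℂ) (j c)) (β' : C → ℂ) = 0 :=
      classInner_irr_of_ne (f χ).2 β'.2 (fun h => hβ' (Subtype.ext h.symm))
    rw [h1]
    simp

/-- **The Glauberman correspondence for `p`-groups.** -/
theorem pgroup_corr (hp : p.Prime) : ∀ (n : ℕ) (P Y C : Type u) [Group P] [Group Y] [Group C] [Finite P]
    [Fintype Y] [Fintype C] (φ : P →* MulAut Y) (j : C →* Y), Nat.card P = n → IsPGroup p P →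
    ¬ p ∣ Nat.card Y → Function.Injective j → (∀ y, y ∈ j.range ↔ ∀ a, φ a y = y) →
    ∃ f : IrrInv φ ≃ IrrCharacter C, ∀ χ : IrrInv φ, IsGlauber p j (χ.1 : Y → ℂ) (f χ) := by
  intro n
  induction n using Nat.strong_induction_on with
  | _ n ih =>
  intro P Y C _ _ _ _ _ _ φ j hcard hP hY hj hr
  classical
  haveI : Fact p.Prime := ⟨hp⟩
  by_cases hnt : Nontrivial P
  · obtain ⟨Z, hZn, hZc⟩ := exists_central_order_p hP
    letI : Fintype (fixZ φ Z) := Fintype.ofFinite _
    have hY₁ : ¬ p ∣ Nat.card (fixZ φ Z) :=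
      fun h => hY (h.trans (Subgroup.card_subgroup_dvd_card _))
    obtain ⟨f₁, hf₁⟩ := step_corr (A := Z) (φ := φ.comp Z.subtype) (j := (fixZ φ Z).subtype) hp hZc hY
      (fixZ φ Z).subtype_injective (by
        intro y
        simp only [Subgroup.range_subtype]
        exact Iff.rfl)
    let jb : C →* fixZ φ Z := j.codRestrict (fixZ φ Z) (fun c a => (hr (j c)).mp ⟨c, rfl⟩ a)
    have hjb : Function.Injective jb := by
      intro a b h
      exact hj (congrArg Subtype.val h)
    have hrb : ∀ y : fixZ φ Z, y ∈ jb.range ↔ ∀ a, quotAct φ Z a y = y := by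
      intro y
      rw [fix_quot_iff, ← hr]
      constructor
      · rintro ⟨c, rfl⟩
        exact ⟨c, rfl⟩
      · rintro ⟨c, hc⟩
        exact ⟨c, Subtype.ext hc⟩
    have hlt : Nat.card (P ⧸ Z) < n := by
      have h1 := Subgroup.card_eq_card_quotient_mul_card_subgroup Z
      rw [hZc, hcard] at h1
      have h2 := hp.one_lt
      have h3 : 0 < Nat.card (P ⧸ Z) := Nat.card_pos
      have h4 : 0 < n := by rw [← hcard]; exact Nat.card_pos
      nlinarith
    obtain ⟨f₂, hf₂⟩ := ih _ hlt (P ⧸ Z) (fixZ φ Z) C (quotAct φ Z) jb rfl (hP.to_quotient Z) hY₁ hjb hrb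
    have hres : ∀ χ : IrrInv φ, IsInv (φ.comp Z.subtype) (χ.1 : Y → ℂ) := fun χ z y => χ.2 z y
    let E : IrrInv φ ≃ IrrInv (quotAct φ Z) :=
      { toFun := fun χ => ⟨f₁ ⟨χ.1, hres χ⟩, glauber_inv_of_inv φ Z hp χ.2 (hf₁ ⟨χ.1, hres χ⟩)⟩
        invFun := fun θ => ⟨(f₁.symm θ.1).1, by
          intro a y
          set χ' := f₁.symm θ.1 with hχ'
          have hG : IsGlauber p (fixZ φ Z).subtype (χ'.1 : Y → ℂ) θ.1 := by
            have := hf₁ χ'
            rwa [hχ', f₁.apply_symm_apply] at this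
          -- the conjugate character
          have hinv : IsInv (φ.comp Z.subtype) ((χ'.1 : Y → ℂ) ∘ φ a) := by
            rintro ⟨z, hz⟩ w
            have h1 : a * z * a⁻¹ ∈ Z := hZn.conj_mem z hz a
            have h2 := χ'.2 ⟨_, h1⟩ (φ a w)
            have h3 : (φ.comp Z.subtype) ⟨a * z * a⁻¹, h1⟩ (φ a w) = φ a (φ z w) := by
              simp
            rw [h3] at h2
            exact h2
          have hG2 := hG.comp (φ a) (restrictHom φ (fixZ φ Z) (fixZ_inv φ Z) a) (fun c => rfl)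
          have hθ : (⟨(θ.1 : fixZ φ Z → ℂ) ∘ restrictHom φ (fixZ φ Z) (fixZ_inv φ Z) a,
              isIrr_comp_equiv _ θ.1.2⟩ : IrrCharacter (fixZ φ Z)) = θ.1 := by
            apply Subtype.ext
            funext w
            exact θ.2 (a : P ⧸ Z) w
          rw [hθ] at hG2
          let χ'' : IrrInv (φ.comp Z.subtype) := ⟨⟨(χ'.1 : Y → ℂ) ∘ φ a, isIrr_comp_equiv (φ a) χ'.1.2⟩, hinv⟩
          have h4 := (hf₁ χ'').unique hp hG2
          have h5 : χ'' = χ' := by
            apply f₁.injective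
            rw [h4, hχ', f₁.apply_symm_apply]
          have h6 := congrFun (congrArg (fun x : IrrInv (φ.comp Z.subtype) => (x.1 : Y → ℂ)) h5) y
          exact h6⟩
        left_inv := fun χ => by
          apply Subtype.ext
          show (f₁.symm (f₁ ⟨χ.1, hres χ⟩)).1 = χ.1
          rw [f₁.symm_apply_apply]
        right_inv := fun θ => by
          apply Subtype.ext
          show f₁ (f₁.symm θ.1) = θ.1
          exact f₁.apply_symm_apply _ }
    refine ⟨E.trans f₂, fun χ => ?_⟩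
    have h1 := hf₁ ⟨χ.1, hres χ⟩
    have h2 := hf₂ (E χ)
    have h3 := IsGlauber.trans (IsIrrCharacter.isCharacter χ.1.2) h1 h2
    have h4 : (fixZ φ Z).subtype.comp jb = j := by
      ext c
      rfl
    rw [h4] at h3
    exact h3
  · -- trivial group
    haveI : Subsingleton P := not_nontrivial_iff_subsingleton.mp hnt
    exact trivial_corr φ hj hr

/-- The correspondence for `p`-groups, with the coprimality hypothesis in the usual form. -/
theorem pgroup_corr_coprime (hp : p.Prime) {P Y C : Type u} [Group P] [Group Y] [Group C] [Finite P]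
    [Fintype Y] [Fintype C] (φ : P →* MulAut Y) {j : C →* Y} (hP : IsPGroup p P)
    (hcop : (Nat.card Y).Coprime (Nat.card P)) (hj : Function.Injective j)
    (hr : ∀ y, y ∈ j.range ↔ ∀ a, φ a y = y) :
    ∃ f : IrrInv φ ≃ IrrCharacter C, ∀ χ : IrrInv φ, IsGlauber p j (χ.1 : Y → ℂ) (f χ) := by
  haveI : Fact p.Prime := ⟨hp⟩
  by_cases hnt : Nontrivial P
  · obtain ⟨n, hn, hcard⟩ := hP.nontrivial_iff_card.mp hnt
    have hY : ¬ p ∣ Nat.card Y := by
      intro h
      have h1 : p ∣ Nat.card P := by rw [hcard]; exact dvd_pow_self p hn.ne'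
      have h2 := Nat.dvd_gcd h h1
      rw [hcop.gcd_eq_one] at h2
      exact hp.one_lt.ne' (Nat.dvd_one.mp h2)
    exact pgroup_corr hp _ P Y C φ j rfl hP hY hj hr
  · haveI : Subsingleton P := not_nontrivial_iff_subsingleton.mp hnt
    exact trivial_corr φ hj hr

end Main

section Conj

variable {Γ : Type u} [Group Γ]

/-- The conjugation action of a subgroup on a subgroup that it normalizes. -/
def conjAct (G S : Subgroup Γ) (hnorm : ∀ s ∈ S, ∀ g ∈ G, s * g * s⁻¹ ∈ G) : S →* MulAut G :=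
  restrictHom ((MulAut.conj : Γ →* MulAut Γ).comp S.subtype) G (fun a y hy => by
    simpa using hnorm a a.2 y hy)

theorem conjAct_apply (G S : Subgroup Γ) (hnorm : ∀ s ∈ S, ∀ g ∈ G, s * g * s⁻¹ ∈ G) (a : S) (y : G) :
    ((conjAct G S hnorm a y : G) : Γ) = a * y * (a : Γ)⁻¹ := rfl

theorem isInv_conjAct_iff (G S : Subgroup Γ) (hnorm : ∀ s ∈ S, ∀ g ∈ G, s * g * s⁻¹ ∈ G) (χ : G → ℂ) :
    IsInv (conjAct G S hnorm) χ ↔ ∀ s ∈ S, ∀ g g' : G, (g' : Γ) = s * g * s⁻¹ → χ g' = χ g := by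
  constructor
  · intro h s hs g g' hg
    have h1 := h ⟨s, hs⟩ g
    have h2 : conjAct G S hnorm ⟨s, hs⟩ g = g' := Subtype.ext hg.symm
    rw [h2] at h1
    exact h1
  · intro h a y
    exact h a a.2 y _ rfl

end Conj

end Cfsg.Agent.Lib.Coprime
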