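import Mathlib
import Cfsg.Agent.Lib.Coprime.GlauberP

/-!
# Compatibility of the Glauberman correspondence for `p`-groups with invariant subgroups
-/

set_option autoImplicit false
set_option linter.style.haveILetI false
set_option linter.unusedSectionVars false
set_option linter.unusedSimpArgs false
set_option linter.unnecessarySimpa false

open scoped ComplexConjugate
open Cfsg Cfsg.Agent.Lib.Char

namespace Cfsg.Agent.Lib.Coprime

universe u

section Compat

variable {p : ℕ}

/-- The restriction of an equivariant homomorphism to the fixed points. -/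
def fixHom {P Y N : Type u} [Group P] [Group Y] [Group N] (φ : P →* MulAut Y) (ψ : P →* MulAut N)
    (Z : Subgroup P) (e : N →* Y) (he : ∀ a n, e (ψ a n) = φ a (e n)) : fixZ ψ Z →* fixZ φ Z :=
  (e.comp (fixZ ψ Z).subtype).codRestrict (fixZ φ Z) (fun n a => by
    have h1 := he a.1 n.1
    have h2 : ψ a.1 n.1 = n.1 := n.2 a
    rw [h2] at h1
    exact h1.symm)

theorem fixHom_coe {P Y N : Type u} [Group P] [Group Y] [Group N] (φ : P →* MulAut Y) (ψ : P →* MulAut N)
    (Z : Subgroup P) (e : N →* Y) (he : ∀ a n, e (ψ a n) = φ a (e n)) (n : fixZ ψ Z) :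
    ((fixHom φ ψ Z e he n : fixZ φ Z) : Y) = e n := rfl

theorem IsGlauber.of_subsingleton {P Y C : Type u} [Group P] [Group Y] [Group C] [Subsingleton P]
    [Fintype Y] [Fintype C] (hp : p.Prime) (φ : P →* MulAut Y) {j : C →* Y} (hj : Function.Injective j)
    (hr : ∀ y, y ∈ j.range ↔ ∀ a, φ a y = y) {χ : Y → ℂ} (hχ : IsIrrCharacter Y χ) {β : IrrCharacter C}
    (h : IsGlauber p j χ β) : (β : C → ℂ) = fun c => χ (j c) := by
  classical
  have hone : ∀ a : P, φ a = 1 := by
    intro a
    rw [Subsingleton.elim a 1, map_one]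
  have hsurj : Function.Surjective j := by
    intro y
    exact (hr y).mpr (fun a => by rw [hone]; rfl)
  let e : C ≃* Y := MulEquiv.ofBijective j ⟨hj, hsurj⟩
  have h1 : IsIrrCharacter C (fun c => χ (j c)) := isIrr_comp_equiv e hχ
  by_contra hne
  have h2 := h.dvd ⟨_, h1⟩ (fun h3 => hne (congrArg Subtype.val h3).symm)
  have h3 := h.unit
  obtain ⟨t, ht⟩ := h2
  have h4 : classInner (fun c => χ (j c)) (fun c => χ (j c)) = 1 := classInner_irr_self h1
  simp only at ht
  rw [h4] at ht
  have h5 : (1 : ℤ) = (p : ℤ) * t := by exact_mod_cast ht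
  have h6 : (p : ℤ) ∣ 1 := ⟨t, h5⟩
  have h7 := Int.eq_one_of_dvd_one (by positivity) h6
  have h8 : p = 1 := by exact_mod_cast h7
  exact hp.one_lt.ne' h8

/-- **Compatibility**: if the correspondents have a common constituent on the fixed points of `N`, then
the characters have a common constituent on `N`. -/
theorem pgroup_compat (hp : p.Prime) : ∀ (n : ℕ) (P Y C N D : Type u) [Group P] [Group Y] [Group C] [Group N]
    [Group D] [Finite P] [Fintype Y] [Fintype C] [Fintype N] [Fintype D]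
    (φ : P →* MulAut Y) (ψ : P →* MulAut N) (j : C →* Y) (j' : D →* N) (e : N →* Y) (k : D →* C),
    Nat.card P = n → IsPGroup p P → (Nat.card Y).Coprime (Nat.card P) → (Nat.card N).Coprime (Nat.card P) →
    Function.Injective j → (∀ y, y ∈ j.range ↔ ∀ a, φ a y = y) →
    Function.Injective j' → (∀ y, y ∈ j'.range ↔ ∀ a, ψ a y = y) →
    (∀ a n, e (ψ a n) = φ a (e n)) → (∀ d, e (j' d) = j (k d)) →
    ∀ {χ : Y → ℂ} {ϑ : N → ℂ} {β : IrrCharacter C} {η : IrrCharacter D}, IsIrrCharacter Y χ → IsIrrCharacter N ϑ →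
    IsInv φ χ → IsInv ψ ϑ → IsGlauber p j χ β → IsGlauber p j' ϑ η →
    classInner (fun d => (β : C → ℂ) (k d)) (η : D → ℂ) ≠ 0 → classInner (fun n => χ (e n)) ϑ ≠ 0 := by
  intro n
  induction n using Nat.strong_induction_on with
  | _ n ih =>
  intro P Y C N D _ _ _ _ _ _ _ _ _ _ φ ψ j j' e k hcard hP hcopY hcopN hj hr hj' hr' he hek χ ϑ β η hχ hϑ hinv
    hinv' hG hG' hne
  classical
  haveI : Fact p.Prime := ⟨hp⟩
  by_cases hnt : Nontrivial P
  · obtain ⟨Z, hZn, hZc⟩ := exists_central_order_p hP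
    obtain ⟨m, hm, hcardP⟩ := hP.nontrivial_iff_card.mp hnt
    have hdvdP : p ∣ Nat.card P := by rw [hcardP]; exact dvd_pow_self p hm.ne'
    have hY : ¬ p ∣ Nat.card Y := by
      intro h
      have h2 := Nat.dvd_gcd h hdvdP
      rw [hcopY.gcd_eq_one] at h2
      exact hp.one_lt.ne' (Nat.dvd_one.mp h2)
    have hN : ¬ p ∣ Nat.card N := by
      intro h
      have h2 := Nat.dvd_gcd h hdvdP
      rw [hcopN.gcd_eq_one] at h2
      exact hp.one_lt.ne' (Nat.dvd_one.mp h2)
    letI : Fintype (fixZ φ Z) := Fintype.ofFinite _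
    letI : Fintype (fixZ ψ Z) := Fintype.ofFinite _
    haveI : IsCyclic Z := isCyclic_of_prime_card hZc
    obtain ⟨a₀, hgen⟩ := IsCyclic.exists_generator (α := Z)
    have hord : orderOf a₀ = p := by
      rw [← hZc]
      exact orderOf_eq_card_of_forall_mem_zpowers hgen
    have hsub1 : ∀ y, y ∈ (fixZ φ Z).subtype.range ↔ ∀ a, (φ.comp Z.subtype) a y = y := by
      intro y
      simp only [Subgroup.range_subtype]
      exact Iff.rfl
    have hsub2 : ∀ y, y ∈ (fixZ ψ Z).subtype.range ↔ ∀ a, (ψ.comp Z.subtype) a y = y := by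
      intro y
      simp only [Subgroup.range_subtype]
      exact Iff.rfl
    have hres1 : IsInv (φ.comp Z.subtype) χ := fun z y => hinv z y
    have hres2 : IsInv (ψ.comp Z.subtype) ϑ := fun z y => hinv' z y
    -- first correspondents
    obtain ⟨-, θ, -, -, -, -, -, -, -, hθ⟩ :=
      step_value hp hgen hord hY (fixZ φ Z).subtype_injective hsub1 hχ hres1
    obtain ⟨-, θ', -, -, -, -, -, -, -, hθ'⟩ :=
      step_value hp hgen hord hN (fixZ ψ Z).subtype_injective hsub2 hϑ hres2
    have hθinv := glauber_inv_of_inv φ Z hp hinv hθ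
    have hθ'inv := glauber_inv_of_inv ψ Z hp hinv' hθ'
    let jb : C →* fixZ φ Z := j.codRestrict (fixZ φ Z) (fun c a => (hr (j c)).mp ⟨c, rfl⟩ a)
    let jb' : D →* fixZ ψ Z := j'.codRestrict (fixZ ψ Z) (fun c a => (hr' (j' c)).mp ⟨c, rfl⟩ a)
    have hjb : Function.Injective jb := fun a b h => hj (congrArg Subtype.val h)
    have hjb' : Function.Injective jb' := fun a b h => hj' (congrArg Subtype.val h)
    have hrb : ∀ y : fixZ φ Z, y ∈ jb.range ↔ ∀ a, quotAct φ Z a y = y := by
      intro y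
      rw [fix_quot_iff, ← hr]
      constructor
      · rintro ⟨c, rfl⟩
        exact ⟨c, rfl⟩
      · rintro ⟨c, hc⟩
        exact ⟨c, Subtype.ext hc⟩
    have hrb' : ∀ y : fixZ ψ Z, y ∈ jb'.range ↔ ∀ a, quotAct ψ Z a y = y := by
      intro y
      rw [fix_quot_iff, ← hr']
      constructor
      · rintro ⟨c, rfl⟩
        exact ⟨c, rfl⟩
      · rintro ⟨c, hc⟩
        exact ⟨c, Subtype.ext hc⟩
    have hlt : Nat.card (P ⧸ Z) < n := by
      have h1 := Subgroup.card_eq_card_quotient_mul_card_subgroup Z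
      rw [hZc, hcard] at h1
      have h2 := hp.one_lt
      have h3 : 0 < Nat.card (P ⧸ Z) := Nat.card_pos
      have h4 : 0 < n := by rw [← hcard]; exact Nat.card_pos
      nlinarith
    have hcopQ : ∀ m : ℕ, (m).Coprime (Nat.card P) → m.Coprime (Nat.card (P ⧸ Z)) := by
      intro m hm
      exact Nat.Coprime.coprime_dvd_right (Subgroup.card_quotient_dvd_card Z) hm
    have hcopY₁ : (Nat.card (fixZ φ Z)).Coprime (Nat.card (P ⧸ Z)) :=
      hcopQ _ (Nat.Coprime.coprime_dvd_left (Subgroup.card_subgroup_dvd_card _) hcopY)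
    have hcopN₁ : (Nat.card (fixZ ψ Z)).Coprime (Nat.card (P ⧸ Z)) :=
      hcopQ _ (Nat.Coprime.coprime_dvd_left (Subgroup.card_subgroup_dvd_card _) hcopN)
    -- second correspondents
    obtain ⟨f₂, hf₂⟩ := pgroup_corr_coprime hp (quotAct φ Z) (j := jb) (hP.to_quotient Z) hcopY₁ hjb hrb
    obtain ⟨f₂', hf₂'⟩ := pgroup_corr_coprime hp (quotAct ψ Z) (j := jb') (hP.to_quotient Z) hcopN₁ hjb' hrb'
    have h1 := hf₂ ⟨θ, hθinv⟩
    have h2 := hf₂' ⟨θ', hθ'inv⟩
    have hsq : (fixZ φ Z).subtype.comp jb = j := by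
      ext c
      rfl
    have hsq' : (fixZ ψ Z).subtype.comp jb' = j' := by
      ext c
      rfl
    have h3 := IsGlauber.trans (IsIrrCharacter.isCharacter hχ) hθ h1
    have h4 := IsGlauber.trans (IsIrrCharacter.isCharacter hϑ) hθ' h2
    rw [hsq] at h3
    rw [hsq'] at h4
    have hβ := h3.unique hp hG
    have hη := h4.unique hp hG'
    rw [hβ] at h1
    rw [hη] at h2
    -- the homomorphism on the fixed points
    let e₁ := fixHom φ ψ Z e (fun a n => he a n)
    have he₁ : ∀ (a : P ⧸ Z) n, e₁ (quotAct ψ Z a n) = quotAct φ Z a (e₁ n) := by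
      intro a n
      obtain ⟨a, rfl⟩ := QuotientGroup.mk_surjective a
      exact Subtype.ext (he a n)
    have hek₁ : ∀ d, e₁ (jb' d) = jb (k d) := by
      intro d
      exact Subtype.ext (hek d)
    have h5 := ih _ hlt (P ⧸ Z) (fixZ φ Z) C (fixZ ψ Z) D (quotAct φ Z) (quotAct ψ Z) jb jb' e₁ k rfl
      (hP.to_quotient Z) hcopY₁ hcopN₁ hjb hrb hjb' hrb' he₁ hek₁ θ.2 θ'.2 hθinv hθ'inv h1 h2 hne
    exact step_compat hp hgen hord hY hN (fixZ φ Z).subtype_injective hsub1 (fixZ ψ Z).subtype_injective hsub2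
      e e₁ (fun a n => he a n) (fun d => rfl) hχ hϑ hres1 hres2 hθ hθ' h5
  · haveI : Subsingleton P := not_nontrivial_iff_subsingleton.mp hnt
    have h1 := IsGlauber.of_subsingleton hp φ hj hr hχ hG
    have h2 := IsGlauber.of_subsingleton hp ψ hj' hr' hϑ hG'
    have hone : ∀ a : P, ψ a = 1 := by
      intro a
      rw [Subsingleton.elim a 1, map_one]
    have hsurj : Function.Surjective j' := by
      intro y
      exact (hr' y).mpr (fun a => by rw [hone]; rfl)
    let e' : D ≃* N := MulEquiv.ofBijective j' ⟨hj', hsurj⟩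
    intro h0
    apply hne
    have h3 : (fun d => (β : C → ℂ) (k d)) = (fun n => χ (e n)) ∘ e' := by
      funext d
      rw [h1]
      show χ (j (k d)) = χ (e (j' d))
      rw [hek]
    have h4 : (η : D → ℂ) = ϑ ∘ e' := h2
    rw [h3, h4, classInner_comp_equiv]
    exact h0

end Compat

end Cfsg.Agent.Lib.Coprime
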