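import Mathlib
import Cfsg.Agent.Lib.Coprime.GlauberCompat

/-!
# The Glauberman correspondence for solvable groups
-/

set_option autoImplicit false
set_option linter.style.haveILetI false
set_option linter.unusedSectionVars false
set_option linter.unusedSimpArgs false
set_option linter.unnecessarySimpa false

open scoped ComplexConjugate
open Cfsg Cfsg.Agent.Lib.Char

namespace Cfsg.Agent.Lib.Coprime

universe u

section Op

variable (p : ℕ) (S : Type u) [Group S]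

/-- The subgroup generated by the `p'`-elements. -/
def opSub : Subgroup S := Subgroup.closure {x | (orderOf x).Coprime p}

variable {S}

theorem opSub_aut (τ : MulAut S) {t : S} (ht : t ∈ opSub p S) : τ t ∈ opSub p S := by
  induction ht using Subgroup.closure_induction with
  | mem x hx =>
    apply Subgroup.subset_closure
    show (orderOf (τ x)).Coprime p
    rw [MulEquiv.orderOf_eq]
    exact hx
  | one => simp
  | mul x y _ _ hx hy =>
    rw [map_mul]
    exact Subgroup.mul_mem _ hx hy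
  | inv x _ hx =>
    rw [map_inv]
    exact Subgroup.inv_mem _ hx

instance opSub_normal : (opSub p S).Normal := ⟨fun t ht g => opSub_aut p (MulAut.conj g) ht⟩

theorem opSub_quot_isPGroup [Finite S] (hp : p.Prime) : IsPGroup p (S ⧸ opSub p S) := by
  intro z
  obtain ⟨x, rfl⟩ := QuotientGroup.mk_surjective z
  obtain ⟨a, r, hr, hm⟩ := Nat.exists_eq_pow_mul_and_not_dvd (orderOf_pos x).ne' p hp.ne_one
  refine ⟨a, ?_⟩
  rw [← QuotientGroup.mk_pow, QuotientGroup.eq_one_iff]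
  apply Subgroup.subset_closure
  show (orderOf (x ^ p ^ a)).Coprime p
  have h1 : orderOf (x ^ p ^ a) = r := by
    rw [orderOf_pow' x (pow_ne_zero a hp.ne_zero), hm]
    have h2 : Nat.gcd (p ^ a * r) (p ^ a) = p ^ a := Nat.gcd_eq_right (Dvd.intro _ rfl)
    rw [h2]
    exact Nat.mul_div_cancel_left r (pow_pos hp.pos a)
  rw [h1]
  exact ((Nat.Prime.coprime_iff_not_dvd hp).mpr hr).symm

theorem exists_opSub_ne_top [Finite S] [Nontrivial S] (hS : Group.IsSolvable S) :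
    ∃ p : ℕ, p.Prime ∧ opSub p S ≠ ⊤ := by
  classical
  have hlt := IsSolvable.commutator_lt_top_of_nontrivial S
  let K := S ⧸ commutator S
  haveI : Nontrivial K := QuotientGroup.nontrivial_iff.mpr hlt.ne
  haveI : Finite K := inferInstance
  have hc : 1 < Nat.card K := Finite.one_lt_card
  obtain ⟨p, hp, hdvd⟩ := Nat.exists_prime_and_dvd (ne_of_gt hc)
  refine ⟨p, hp, fun htop => ?_⟩
  haveI : Fact p.Prime := ⟨hp⟩
  obtain ⟨k, hk⟩ := exists_prime_orderOf_dvd_card' (G := K) p hdvd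
  have hP : ∀ x ∈ opSub p S, (orderOf (x : K)).Coprime p := by
    intro x hx
    induction hx using Subgroup.closure_induction with
    | mem x hx =>
      refine Nat.Coprime.coprime_dvd_left ?_ hx
      exact orderOf_map_dvd (QuotientGroup.mk' (commutator S)) x
    | one =>
      simp
    | mul x y _ _ hx hy =>
      have hcomm : Commute (x : K) (y : K) :=
        mul_comm (G := Abelianization S) (QuotientGroup.mk x) (QuotientGroup.mk y)
      have h1 : orderOf ((x * y : S) : K) ∣ Nat.lcm (orderOf (x : K)) (orderOf (y : K)) := by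
        have h2 : ((x * y : S) : K) = (x : K) * (y : K) := rfl
        rw [h2]
        exact hcomm.orderOf_mul_dvd_lcm
      refine Nat.Coprime.coprime_dvd_left h1 ?_
      have h3 := Nat.lcm_dvd_mul (orderOf (x : K)) (orderOf (y : K))
      exact Nat.Coprime.coprime_dvd_left h3 (Nat.Coprime.mul_left hx hy)
    | inv x _ hx =>
      have h2 : ((x⁻¹ : S) : K) = (x : K)⁻¹ := rfl
      rw [h2, orderOf_inv]
      exact hx
  obtain ⟨x, rfl⟩ := QuotientGroup.mk_surjective k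
  have h1 := hP x (by rw [htop]; trivial)
  rw [hk] at h1
  exact hp.one_lt.ne' (by simpa using h1)

end Op

section Equivar

variable {S G C : Type u} [Group S] [Group G] [Group C] [Fintype C]

/-- Equivariance of the bijection. -/
def IsEquivar (φ : S →* MulAut G) (j : C →* G) (f : IrrInv φ ≃ IrrCharacter C) : Prop :=
  ∀ (τ : MulAut S) (α : MulAut G) (b : MulAut C), (∀ s y, α (φ s y) = φ (τ s) (α y)) →
    (∀ c, j (b c) = α (j c)) → ∀ (χ : IrrInv φ) (h : IsInv φ ((χ.1 : G → ℂ) ∘ α)),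
      f ⟨⟨(χ.1 : G → ℂ) ∘ α, isIrr_comp_equiv α χ.1.2⟩, h⟩ =
        ⟨((f χ : IrrCharacter C) : C → ℂ) ∘ b, isIrr_comp_equiv b (f χ).2⟩

/-- The restriction of an automorphism of `S` to a characteristic subgroup. -/
def restrictAut (T : Subgroup S) (hT : ∀ (τ : MulAut S) (t : S), t ∈ T → τ t ∈ T) (τ : MulAut S) : MulAut T where
  toFun t := ⟨τ t, hT τ t t.2⟩
  invFun t := ⟨τ⁻¹ t, hT τ⁻¹ t t.2⟩
  left_inv t := Subtype.ext (by simp)
  right_inv t := Subtype.ext (by simp)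
  map_mul' x y := Subtype.ext (by simp)

/-- An automorphism of `G` compatible with an automorphism of `S` acts on the fixed points. -/
def fixAut (φ : S →* MulAut G) (T : Subgroup S) (hT : ∀ (τ : MulAut S) (t : S), t ∈ T → τ t ∈ T) (τ : MulAut S)
    (α : MulAut G) (hc : ∀ s y, α (φ s y) = φ (τ s) (α y)) : MulAut (fixZ φ T) where
  toFun y := ⟨α y, by
    intro t
    have h1 := hc (τ⁻¹ t.1) y.1
    have h2 : φ (τ⁻¹ t.1) y.1 = y.1 := y.2 ⟨_, hT τ⁻¹ t.1 t.2⟩
    rw [h2] at h1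
    have h3 : τ (τ⁻¹ t.1) = t.1 := by simp
    rw [h3] at h1
    exact h1.symm⟩
  invFun y := ⟨α⁻¹ y, by
    intro t
    have h1 := hc t.1 (α⁻¹ y.1)
    have h2 : α (α⁻¹ y.1) = y.1 := by simp
    rw [h2] at h1
    have h3 : φ (τ t.1) y.1 = y.1 := y.2 ⟨_, hT τ t.1 t.2⟩
    rw [h3] at h1
    show φ t.1 (α⁻¹ y.1) = α⁻¹ y.1
    have h4 := congrArg (α⁻¹ : MulAut G) h1
    have h5 : (α⁻¹ : MulAut G) (α (φ t.1 ((α⁻¹ : MulAut G) y.1))) = φ t.1 ((α⁻¹ : MulAut G) y.1) := by simp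
    rw [h5] at h4
    exact h4⟩
  left_inv t := Subtype.ext (by simp)
  right_inv t := Subtype.ext (by simp)
  map_mul' x y := Subtype.ext (by simp)

end Equivar

section Compose

variable {S G C : Type u} [Group S] [Group G] [Group C] [Fintype G] [Fintype C] {p : ℕ}

/-- The composition step. -/
theorem compose_corr (hp : p.Prime) (φ : S →* MulAut G) (T : Subgroup S) [hTn : T.Normal]
    (hT : ∀ (τ : MulAut S) (t : S), t ∈ T → τ t ∈ T) [Fintype (fixZ φ T)]
    (f₁ : IrrInv (φ.comp T.subtype) ≃ IrrCharacter (fixZ φ T))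
    (eq₁ : IsEquivar (φ.comp T.subtype) (fixZ φ T).subtype f₁) {j : C →* G} (jb : C →* fixZ φ T)
    (hjb : ∀ c, (jb c : G) = j c)
    (f₂ : IrrInv (quotAct φ T) ≃ IrrCharacter C)
    (hf₂ : ∀ θ : IrrInv (quotAct φ T), IsGlauber p jb (θ.1 : fixZ φ T → ℂ) (f₂ θ)) :
    ∃ f : IrrInv φ ≃ IrrCharacter C, IsEquivar φ j f ∧
      ∀ χ : IrrInv φ, ∃ (hres : IsInv (φ.comp T.subtype) (χ.1 : G → ℂ))
        (hθ : IsInv (quotAct φ T) ((f₁ ⟨χ.1, hres⟩ : IrrCharacter (fixZ φ T)) : fixZ φ T → ℂ)),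
        f χ = f₂ ⟨f₁ ⟨χ.1, hres⟩, hθ⟩ := by
  classical
  have hres : ∀ χ : IrrInv φ, IsInv (φ.comp T.subtype) (χ.1 : G → ℂ) := fun χ z y => χ.2 z y
  -- conjugation by an element of `S`
  have hconj : ∀ (s : S) (χ : IrrInv (φ.comp T.subtype)) (h : IsInv (φ.comp T.subtype) ((χ.1 : G → ℂ) ∘ φ s)),
      f₁ ⟨⟨(χ.1 : G → ℂ) ∘ φ s, isIrr_comp_equiv (φ s) χ.1.2⟩, h⟩ =
        ⟨((f₁ χ : IrrCharacter (fixZ φ T)) : fixZ φ T → ℂ) ∘ restrictHom φ (fixZ φ T) (fixZ_inv φ T) s,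
          isIrr_comp_equiv _ (f₁ χ).2⟩ := by
    intro s χ h
    refine eq₁ (restrictAut T hT (MulAut.conj s)) (φ s) (restrictHom φ (fixZ φ T) (fixZ_inv φ T) s) ?_ (fun c => rfl) χ h
    intro t y
    show φ s (φ t y) = φ (s * t * s⁻¹) (φ s y)
    simp
  have hinvconj : ∀ (s : S) (χ : IrrInv (φ.comp T.subtype)), IsInv (φ.comp T.subtype) ((χ.1 : G → ℂ) ∘ φ s) := by
    rintro s χ ⟨t, ht⟩ w
    have h1 : s * t * s⁻¹ ∈ T := hTn.conj_mem t ht s
    have h2 := χ.2 ⟨_, h1⟩ (φ s w)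
    have h3 : (φ.comp T.subtype) ⟨s * t * s⁻¹, h1⟩ (φ s w) = φ s (φ t w) := by
      simp
    rw [h3] at h2
    exact h2
  let E : IrrInv φ ≃ IrrInv (quotAct φ T) :=
    { toFun := fun χ => ⟨f₁ ⟨χ.1, hres χ⟩, by
        intro a y
        obtain ⟨s, rfl⟩ := QuotientGroup.mk_surjective a
        have h1 := hconj s ⟨χ.1, hres χ⟩ (hinvconj s _)
        have h2 : (⟨⟨(χ.1 : G → ℂ) ∘ φ s, isIrr_comp_equiv (φ s) χ.1.2⟩, hinvconj s ⟨χ.1, hres χ⟩⟩ :
            IrrInv (φ.comp T.subtype)) = ⟨χ.1, hres χ⟩ := by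
          apply Subtype.ext
          apply Subtype.ext
          exact funext (χ.2 s)
        rw [h2] at h1
        have h3 := congrFun (congrArg Subtype.val h1) y
        exact h3.symm⟩
      invFun := fun θ => ⟨(f₁.symm θ.1).1, by
        intro s y
        set χ' := f₁.symm θ.1 with hχ'
        have h1 := hconj s χ' (hinvconj s χ')
        have h2 : f₁ χ' = θ.1 := by rw [hχ', f₁.apply_symm_apply]
        have h3 : (⟨((f₁ χ' : IrrCharacter (fixZ φ T)) : fixZ φ T → ℂ) ∘ restrictHom φ (fixZ φ T) (fixZ_inv φ T) s,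
            isIrr_comp_equiv _ (f₁ χ').2⟩ : IrrCharacter (fixZ φ T)) = f₁ χ' := by
          rw [h2]
          apply Subtype.ext
          funext w
          exact θ.2 (s : S ⧸ T) w
        rw [h3] at h1
        have h4 := f₁.injective h1
        have h5 := congrFun (congrArg (fun x : IrrInv (φ.comp T.subtype) => (x.1 : G → ℂ)) h4) y
        exact h5⟩
      left_inv := fun χ => by
        apply Subtype.ext
        show (f₁.symm (f₁ ⟨χ.1, hres χ⟩)).1 = χ.1
        rw [f₁.symm_apply_apply]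
      right_inv := fun θ => by
        apply Subtype.ext
        show f₁ (f₁.symm θ.1) = θ.1
        exact f₁.apply_symm_apply _ }
  refine ⟨E.trans f₂, ?_, fun χ => ⟨hres χ, (E χ).2, rfl⟩⟩
  -- equivariance
  intro τ α b hc hb χ h
  have hG := hf₂ (E χ)
  let α₁ := fixAut φ T hT τ α hc
  have hab : ∀ c, jb (b c) = α₁ (jb c) := by
    intro c
    apply Subtype.ext
    show (jb (b c) : G) = α (jb c)
    rw [hjb, hjb, hb]
  have hG2 := hG.comp α₁ b hab
  -- identify the first correspondent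
  have hcT : ∀ (s : T) (y : G), α ((φ.comp T.subtype) s y) =
      (φ.comp T.subtype) (restrictAut T hT τ s) (α y) := by
    intro s y
    exact hc s y
  have hinvα : IsInv (φ.comp T.subtype) ((χ.1 : G → ℂ) ∘ α) := fun z y => h z y
  have h1 := eq₁ (restrictAut T hT τ) α α₁ hcT (fun c => rfl) ⟨χ.1, hres χ⟩ hinvα
  let χα : IrrInv φ := ⟨⟨(χ.1 : G → ℂ) ∘ α, isIrr_comp_equiv α χ.1.2⟩, h⟩
  have h2 : ((E χα).1 : IrrCharacter (fixZ φ T)) =
      ⟨((E χ).1 : fixZ φ T → ℂ) ∘ α₁, isIrr_comp_equiv α₁ (E χ).1.2⟩ := h1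
  have h3 := hf₂ (E χα)
  rw [h2] at h3
  have h4 := h3.unique hp hG2
  exact h4

end Compose

section Sol

/-- A bijection given by the congruence relation is equivariant. -/
theorem isEquivar_of_glauber {S G C : Type u} [Group S] [Group G] [Group C] [Fintype C] {p : ℕ} (hp : p.Prime)
    (φ : S →* MulAut G) (j : C →* G) (f : IrrInv φ ≃ IrrCharacter C)
    (hf : ∀ χ : IrrInv φ, IsGlauber p j (χ.1 : G → ℂ) (f χ)) : IsEquivar φ j f := by
  intro τ α b _ hb χ h
  exact (hf ⟨⟨(χ.1 : G → ℂ) ∘ α, isIrr_comp_equiv α χ.1.2⟩, h⟩).unique hp ((hf χ).comp α b hb)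

/-- **The Glauberman correspondence for solvable groups** with equivariance and compatibility. -/
theorem sol_corr : ∀ (n : ℕ) (S G N C D : Type u) [Group S] [Group G] [Group N] [Group C] [Group D] [Finite S]
    [Fintype G] [Fintype N] [Fintype C] [Fintype D]
    (φ : S →* MulAut G) (ψ : S →* MulAut N) (j : C →* G) (j' : D →* N) (e : N →* G) (k : D →* C),
    Nat.card S = n → Group.IsSolvable S → (Nat.card G).Coprime (Nat.card S) → (Nat.card N).Coprime (Nat.card S) →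
    Function.Injective j → (∀ y, y ∈ j.range ↔ ∀ a, φ a y = y) →
    Function.Injective j' → (∀ y, y ∈ j'.range ↔ ∀ a, ψ a y = y) →
    (∀ a n, e (ψ a n) = φ a (e n)) → (∀ d, e (j' d) = j (k d)) →
    ∃ (f : IrrInv φ ≃ IrrCharacter C) (f' : IrrInv ψ ≃ IrrCharacter D),
      IsEquivar φ j f ∧ IsEquivar ψ j' f' ∧
      ∀ (χ : IrrInv φ) (ϑ : IrrInv ψ), classInner (fun d => (f χ : C → ℂ) (k d)) (f' ϑ : D → ℂ) ≠ 0 →
        classInner (fun n => (χ.1 : G → ℂ) (e n)) (ϑ.1 : N → ℂ) ≠ 0 := by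
  intro n
  induction n using Nat.strong_induction_on with
  | _ n ih =>
  intro S G N C D _ _ _ _ _ _ _ _ _ _ φ ψ j j' e k hcard hsol hcopG hcopN hj hr hj' hr' he hek
  classical
  by_cases hS : Subsingleton S
  · obtain ⟨f, hf⟩ := trivial_corr (p := 2) φ hj hr
    obtain ⟨f', hf'⟩ := trivial_corr (p := 2) ψ hj' hr'
    refine ⟨f, f', isEquivar_of_glauber Nat.prime_two _ _ _ hf, isEquivar_of_glauber Nat.prime_two _ _ _ hf', ?_⟩
    intro χ ϑ hne
    have hP : IsPGroup 2 S := IsPGroup.of_card (n := 0) (by simp [Nat.card_unique])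
    exact pgroup_compat Nat.prime_two _ S G C N D φ ψ j j' e k rfl hP hcopG hcopN hj hr hj' hr' he hek χ.1.2 ϑ.1.2 χ.2
      ϑ.2 (hf χ) (hf' ϑ) hne
  haveI : Nontrivial S := not_subsingleton_iff_nontrivial.mp hS
  obtain ⟨p, hp, hne⟩ := exists_opSub_ne_top hsol
  set T : Subgroup S := opSub p S with hTdef
  have hTaut : ∀ (τ : MulAut S) (t : S), t ∈ T → τ t ∈ T := fun τ t ht => opSub_aut p τ ht
  haveI hTn : T.Normal := opSub_normal p
  have hcardT : Nat.card T < n := by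
    rw [← hcard]
    have h1 : Nat.card T ≤ Nat.card S := Nat.le_of_dvd Nat.card_pos (Subgroup.card_subgroup_dvd_card T)
    exact lt_of_le_of_ne h1 (fun h2 => hne (Subgroup.eq_top_of_card_eq T h2))
  have hdvdT : Nat.card T ∣ Nat.card S := Subgroup.card_subgroup_dvd_card T
  have hsolT : Group.IsSolvable T := by infer_instance
  have hcopT : (Nat.card G).Coprime (Nat.card T) := Nat.Coprime.coprime_dvd_right hdvdT hcopG
  have hcopT' : (Nat.card N).Coprime (Nat.card T) := Nat.Coprime.coprime_dvd_right hdvdT hcopN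
  -- the correspondence for `T`
  letI : Fintype (fixZ φ T) := Fintype.ofFinite _
  letI : Fintype (fixZ ψ T) := Fintype.ofFinite _
  have hheq : ∀ (a : T) (n : N), e ((ψ.comp T.subtype) a n) = (φ.comp T.subtype) a (e n) := fun a n => he a n
  let k₁ : fixZ ψ T →* fixZ φ T := fixHom φ ψ T e he
  obtain ⟨f₁, f₁', eq₁, eq₁', compat₁⟩ := ih (Nat.card T) hcardT T G N (fixZ φ T) (fixZ ψ T) (φ.comp T.subtype)
    (ψ.comp T.subtype) (fixZ φ T).subtype (fixZ ψ T).subtype e k₁ rfl hsolT hcopT hcopT'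
    (Subgroup.subtype_injective _) (fun y => by rw [Subgroup.range_subtype]; exact Iff.rfl)
    (Subgroup.subtype_injective _) (fun y => by rw [Subgroup.range_subtype]; exact Iff.rfl) hheq (fun d => rfl)
  -- the correspondence for the quotient
  have hPq : IsPGroup p (S ⧸ T) := opSub_quot_isPGroup p hp
  have hdvdq : Nat.card (S ⧸ T) ∣ Nat.card S := Subgroup.card_quotient_dvd_card T
  have hcopq : (Nat.card (fixZ φ T)).Coprime (Nat.card (S ⧸ T)) :=
    Nat.Coprime.coprime_dvd_right hdvdq (Nat.Coprime.coprime_dvd_left (Subgroup.card_subgroup_dvd_card _) hcopG)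
  have hcopq' : (Nat.card (fixZ ψ T)).Coprime (Nat.card (S ⧸ T)) :=
    Nat.Coprime.coprime_dvd_right hdvdq (Nat.Coprime.coprime_dvd_left (Subgroup.card_subgroup_dvd_card _) hcopN)
  have hjin : ∀ c : C, j c ∈ fixZ φ T := by
    intro c t
    have h1 : j c ∈ j.range := ⟨c, rfl⟩
    exact (hr _).mp h1 t.1
  have hjin' : ∀ c : D, j' c ∈ fixZ ψ T := by
    intro c t
    have h1 : j' c ∈ j'.range := ⟨c, rfl⟩
    exact (hr' _).mp h1 t.1
  let jb : C →* fixZ φ T := j.codRestrict (fixZ φ T) hjin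
  let jb' : D →* fixZ ψ T := j'.codRestrict (fixZ ψ T) hjin'
  have hjb : ∀ c, (jb c : G) = j c := fun c => rfl
  have hjb' : ∀ c, (jb' c : N) = j' c := fun c => rfl
  have hjbinj : Function.Injective jb := fun x y h => hj (congrArg Subtype.val h)
  have hjbinj' : Function.Injective jb' := fun x y h => hj' (congrArg Subtype.val h)
  have hrb : ∀ y, y ∈ jb.range ↔ ∀ a, quotAct φ T a y = y := by
    intro y
    rw [fix_quot_iff, ← hr]
    constructor
    · rintro ⟨c, rfl⟩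
      exact ⟨c, rfl⟩
    · rintro ⟨c, hc⟩
      exact ⟨c, Subtype.ext hc⟩
  have hrb' : ∀ y, y ∈ jb'.range ↔ ∀ a, quotAct ψ T a y = y := by
    intro y
    rw [fix_quot_iff, ← hr']
    constructor
    · rintro ⟨c, rfl⟩
      exact ⟨c, rfl⟩
    · rintro ⟨c, hc⟩
      exact ⟨c, Subtype.ext hc⟩
  obtain ⟨f₂, hf₂⟩ := pgroup_corr_coprime hp (quotAct φ T) hPq hcopq hjbinj hrb
  obtain ⟨f₂', hf₂'⟩ := pgroup_corr_coprime hp (quotAct ψ T) hPq hcopq' hjbinj' hrb'
  -- composition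
  obtain ⟨f, eqf, hf⟩ := compose_corr hp φ T hTaut f₁ eq₁ jb hjb f₂ hf₂
  obtain ⟨f', eqf', hf'⟩ := compose_corr hp ψ T hTaut f₁' eq₁' jb' hjb' f₂' hf₂'
  refine ⟨f, f', eqf, eqf', ?_⟩
  intro χ ϑ hne
  obtain ⟨hres, hθ, hfχ⟩ := hf χ
  obtain ⟨hres', hθ', hfϑ⟩ := hf' ϑ
  apply compat₁ ⟨χ.1, hres⟩ ⟨ϑ.1, hres'⟩
  have hk₁e : ∀ a n, k₁ (quotAct ψ T a n) = quotAct φ T a (k₁ n) := by
    intro a n
    obtain ⟨a, rfl⟩ := QuotientGroup.mk_surjective a
    exact Subtype.ext (he a n.1)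
  have hk₁j : ∀ d, k₁ (jb' d) = jb (k d) := fun d => Subtype.ext (hek d)
  rw [hfχ, hfϑ] at hne
  exact pgroup_compat hp _ (S ⧸ T) (fixZ φ T) C (fixZ ψ T) D (quotAct φ T) (quotAct ψ T) jb jb' k₁ k rfl hPq hcopq
    hcopq' hjbinj hrb hjbinj' hrb' hk₁e hk₁j (f₁ ⟨χ.1, hres⟩).2 (f₁' ⟨ϑ.1, hres'⟩).2 hθ hθ'
    (hf₂ ⟨f₁ ⟨χ.1, hres⟩, hθ⟩) (hf₂' ⟨f₁' ⟨ϑ.1, hres'⟩, hθ'⟩) hne

/-- The Glauberman correspondence for solvable acting groups. -/
theorem sol_corr_single {S G C : Type u} [Group S] [Group G] [Group C] [Finite S] [Fintype G] [Fintype C]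
    (φ : S →* MulAut G) (j : C →* G) (hsol : Group.IsSolvable S) (hcop : (Nat.card G).Coprime (Nat.card S))
    (hj : Function.Injective j) (hr : ∀ y, y ∈ j.range ↔ ∀ a, φ a y = y) :
    ∃ f : IrrInv φ ≃ IrrCharacter C, IsEquivar φ j f := by
  obtain ⟨f, _, hf, _⟩ := sol_corr _ S G G C C φ φ j j (MonoidHom.id G) (MonoidHom.id C) rfl hsol hcop hcop hj hr hj hr
    (fun _ _ => rfl) (fun _ => rfl)
  exact ⟨f, hf⟩

end Sol

end Cfsg.Agent.Lib.Coprime
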