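import Mathlib
import Cfsg.Agent.Lib.Coprime.GlauberSol
import Cfsg.Agent.Lib.Degree.Inflate
import Cfsg.Agent.Lib.Char.Gallagher
import Cfsg.Agent.Lib.Char.Integral
import Cfsg.Agent.S0867

/-!
# Irreducible characters of coprime degree of a split extension
-/

set_option autoImplicit false
set_option linter.style.haveILetI false
set_option linter.unusedSectionVars false
set_option linter.unusedSimpArgs false
set_option linter.unnecessarySimpa false

open scoped ComplexConjugate Pointwise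
open Cfsg Cfsg.Agent.Lib.Char
open Cfsg.Agent.Lib.Degree (KerContains inflate inflate_apply inflate_kerContains inflate_injective exists_inflate)

namespace Cfsg.Agent.Lib.Coprime

universe u

section Deg

variable {G : Type u} [Group G]

theorem charDegree_of_eq {χ : G → ℂ} {n : ℕ} (h : χ 1 = n) : charDegree χ = n := by
  unfold charDegree
  rw [h]
  simp

theorem detOrder_dvd_card [Finite G] {χ : G → ℂ} (hχ : IsCharacter G χ) : detOrder χ ∣ Nat.card G := by
  classical
  obtain ⟨n, ρ, rfl⟩ := hχ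
  apply orderOf_dvd_of_pow_eq_one
  funext g
  simp only [Pi.pow_apply, Pi.one_apply]
  rw [detChar_character, ← map_pow, ← map_pow, pow_card_eq_one', map_one, map_one]

variable (K : Subgroup G) [hK : K.Normal]

/-- An invariant irreducible character of a normal subgroup of coprime index extends. -/
theorem exists_ext_of_coprime [Finite G] (hc : K.index.Coprime (Nat.card K)) {ϑ : K → ℂ} (hϑ : IsIrrCharacter K ϑ)
    (hinv : ∀ (g : G) (n : K), ϑ ⟨g * n * g⁻¹, hK.conj_mem (n : G) n.2 g⟩ = ϑ n) :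
    ∃ χ : G → ℂ, IsIrrCharacter G χ ∧ ∀ n : K, χ n = ϑ n := by
  classical
  letI : Fintype K := Fintype.ofFinite _
  obtain ⟨d, hd, -, hdvd⟩ := IsIrrCharacter_degree_dvd hϑ
  have h1 : detOrder ϑ * d ∣ Nat.card K * Nat.card K :=
    mul_dvd_mul (detOrder_dvd_card (IsIrrCharacter.isCharacter hϑ)) hdvd
  have h2 : K.index.Coprime (detOrder ϑ * d) :=
    Nat.Coprime.coprime_dvd_right h1 (Nat.Coprime.mul_right hc hc)
  obtain ⟨χ, ⟨hχ, hext, -⟩, -⟩ := Cfsg.Agent.S0867.result K ϑ hϑ hinv d hd h2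
  exact ⟨χ, hχ, hext⟩

end Deg

section Count

variable {G : Type u} [Group G] [Finite G]

theorem one_constituent_iff (K : Subgroup G) [hK : K.Normal] [Fintype G] [Fintype K] {β : G → ℂ} (hβ : IsIrrCharacter G β) :
    classInner (indFun K (fun _ : K => (1 : ℂ))) β ≠ 0 ↔ ∀ n ∈ K, β n = β 1 := by
  have hcl : IsClassFunction G β := IsCharacter.isClassFunction (IsIrrCharacter.isCharacter hβ)
  rw [frobenius_reciprocity K _ β hcl]
  constructor
  · intro hne n hn
    have h1 : classInner (fun n : K => β n) (fun _ : K => (1 : ℂ)) ≠ 0 := by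
      rw [← conj_classInner]
      simpa using hne
    have h2 := clifford_invariant hK hβ isIrrCharacter_one (fun g => rfl) h1
    have h3 := congrFun h2 ⟨n, hn⟩
    have h4 := congrFun h2 1
    simp only [Pi.smul_apply, smul_eq_mul, mul_one] at h3 h4
    rw [h3]
    exact h4.symm
  · intro h hne
    have h1 : (fun n : K => β n) = (β 1) • (fun _ : K => (1 : ℂ)) := by
      funext n
      simp [h n n.2]
    rw [h1, classInner_smul_right, classInner_irr_self isIrrCharacter_one] at hne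
    have h2 : β 1 ≠ 0 := by
      obtain ⟨n, hn, h3⟩ := Cfsg.Agent.Lib.Degree.irr_degree_natCast ⟨β, hβ⟩
      simp only at h3
      rw [h3]
      exact_mod_cast hn.ne'
    simp at hne
    exact h2 hne

/-- Gallagher's theorem for an extension. -/
theorem gallagher_ext (K : Subgroup G) [hK : K.Normal] [Fintype K] {χh : G → ℂ} {θ : K → ℂ} (hθ : IsIrrCharacter K θ)
    (hχh : IsIrrCharacter G χh) (hext : ∀ n : K, χh n = θ n) :
    Set.BijOn (fun β : G → ℂ => β * χh) {β : G → ℂ | IsIrrCharacter G β ∧ ∀ n ∈ K, β n = β 1}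
      {ψ : G → ℂ | IsIrrCharacter G ψ ∧ classInner (fun n : K => ψ n) θ ≠ 0} := by
  classical
  letI : Fintype G := Fintype.ofFinite _
  have h1 := gallagher_bijOn (φ := fun _ : K => (1 : ℂ)) (ϑ := θ) K isIrrCharacter_one hθ (fun g => rfl)
    (by simpa [Pi.mul_def] using hθ) hχh hext
  have h2 : ((fun _ : K => (1 : ℂ)) * θ) = θ := by
    funext n
    simp
  rw [h2] at h1
  have h3 : ∀ ψ : G → ℂ, IsIrrCharacter G ψ → (classInner (indFun K θ) ψ ≠ 0 ↔ classInner (fun n : K => ψ n) θ ≠ 0) := by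
    intro ψ hψ
    rw [frobenius_reciprocity K θ ψ (IsCharacter.isClassFunction (IsIrrCharacter.isCharacter hψ)), ← conj_classInner]
    simp
  have e1 : {β : G → ℂ | IsIrrCharacter G β ∧ ∀ n ∈ K, β n = β 1} =
      {β : G → ℂ | IsIrrCharacter G β ∧ classInner (indFun K (fun _ : K => (1 : ℂ))) β ≠ 0} := by
    ext β
    constructor
    · rintro ⟨hβ, h⟩
      exact ⟨hβ, (one_constituent_iff K hβ).mpr h⟩
    · rintro ⟨hβ, h⟩
      exact ⟨hβ, (one_constituent_iff K hβ).mp h⟩
  have e2 : {ψ : G → ℂ | IsIrrCharacter G ψ ∧ classInner (fun n : K => ψ n) θ ≠ 0} =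
      {ψ : G → ℂ | IsIrrCharacter G ψ ∧ classInner (indFun K θ) ψ ≠ 0} := by
    ext ψ
    constructor
    · rintro ⟨hβ, h⟩
      exact ⟨hβ, (h3 ψ hβ).mpr h⟩
    · rintro ⟨hβ, h⟩
      exact ⟨hβ, (h3 ψ hβ).mp h⟩
  rw [e1, e2]
  exact h1

theorem index_dvd_card_of_sup (K H : Subgroup G) [K.Normal] (hKH : K ⊔ H = ⊤) : K.index ∣ Nat.card H := by
  have h1 : K.relIndex H = K.index := by
    rw [← Subgroup.relIndex_sup_left, hKH, Subgroup.relIndex_top_right]
  rw [← h1]
  exact Subgroup.relIndex_dvd_card K H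

theorem irr_one_eq_one {β : IrrCharacter G} (h : charDegree (β : G → ℂ) = 1) : (β : G → ℂ) 1 = 1 := by
  obtain ⟨n, -, hn⟩ := Cfsg.Agent.Lib.Degree.irr_degree_natCast β
  have h1 := charDegree_of_eq hn
  rw [h] at h1
  rw [hn, ← h1]
  simp

/-- Counting irreducible characters of degree coprime to the order of a complement. -/
theorem card_coprime_degree (K H : Subgroup G) [hK : K.Normal] (hKH : K ⊔ H = ⊤)
    (hcop : (Nat.card K).Coprime (Nat.card H)) :
    Nat.card {χ : IrrCharacter G // (charDegree (χ : G → ℂ)).Coprime (Nat.card H)} =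
      Nat.card {ϑ : IrrCharacter K // ∀ (g : G) (n : K), (ϑ : K → ℂ) ⟨g * n * g⁻¹, hK.conj_mem n n.2 g⟩ = (ϑ : K → ℂ) n} *
        Nat.card {ψ : IrrCharacter H // charDegree (ψ : H → ℂ) = 1} := by
  classical
  letI : Fintype G := Fintype.ofFinite _
  letI : Fintype K := Fintype.ofFinite _
  letI : Fintype H := Fintype.ofFinite _
  have hidx : K.index ∣ Nat.card H := index_dvd_card_of_sup K H hKH
  have hc : K.index.Coprime (Nat.card K) := Nat.Coprime.coprime_dvd_left hidx hcop.symm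
  let B := {ϑ : IrrCharacter K // ∀ (g : G) (n : K), (ϑ : K → ℂ) ⟨g * n * g⁻¹, hK.conj_mem n n.2 g⟩ = (ϑ : K → ℂ) n}
  let L₁ := {β : IrrCharacter G // charDegree (β : G → ℂ) = 1 ∧ KerContains K (β : G → ℂ)}
  have hext : ∀ ϑ : B, ∃ χ : G → ℂ, IsIrrCharacter G χ ∧ ∀ n : K, χ n = (ϑ.1 : K → ℂ) n :=
    fun ϑ => exists_ext_of_coprime K hc ϑ.1.2 ϑ.2
  choose E hE hE' using hext
  have hgal := fun ϑ : B => gallagher_ext K ϑ.1.2 (hE ϑ) (hE' ϑ)
  have hF : ∀ x : B × L₁, IsIrrCharacter G ((x.2.1 : G → ℂ) * E x.1) ∧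
      classInner (fun n : K => ((x.2.1 : G → ℂ) * E x.1) n) (x.1.1 : K → ℂ) ≠ 0 := by
    intro x
    exact (hgal x.1).mapsTo ⟨x.2.1.2, x.2.2.2⟩
  have hFdeg : ∀ x : B × L₁, (charDegree ((x.2.1 : G → ℂ) * E x.1)).Coprime (Nat.card H) := by
    intro x
    obtain ⟨d, hd, -, hdvd⟩ := IsIrrCharacter_degree_dvd x.1.1.2
    have h1 : ((x.2.1 : G → ℂ) * E x.1) 1 = d := by
      have h2 := hE' x.1 1
      simp only [Subgroup.coe_one] at h2
      rw [Pi.mul_apply, irr_one_eq_one x.2.2.1, one_mul, h2]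
      exact hd
    rw [charDegree_of_eq h1]
    exact Nat.Coprime.coprime_dvd_left hdvd hcop
  let F : B × L₁ → {χ : IrrCharacter G // (charDegree (χ : G → ℂ)).Coprime (Nat.card H)} :=
    fun x => ⟨⟨_, (hF x).1⟩, hFdeg x⟩
  have hFval : ∀ (x : B × L₁) (n : K), ((F x).1 : G → ℂ) n = (x.1.1 : K → ℂ) n := by
    intro x n
    show (x.2.1 : G → ℂ) n * E x.1 n = _
    rw [x.2.2.2 n n.2, irr_one_eq_one x.2.2.1, one_mul, hE']
  have hFinj : Function.Injective F := by
    rintro x y hxy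
    have h1 : x.1 = y.1 := by
      apply Subtype.ext
      apply Subtype.ext
      funext n
      rw [← hFval x n, ← hFval y n, hxy]
    obtain ⟨ϑ, β⟩ := x
    obtain ⟨ϑ', β'⟩ := y
    simp only at h1
    subst h1
    have h2 : ((β.1 : G → ℂ) * E ϑ) = ((β'.1 : G → ℂ) * E ϑ) := congrArg (fun χ => ((χ.1 : IrrCharacter G) : G → ℂ)) hxy
    have h3 := (hgal ϑ).injOn ⟨β.1.2, β.2.2⟩ ⟨β'.1.2, β'.2.2⟩ h2
    have h4 : β = β' := Subtype.ext (Subtype.ext h3)
    rw [h4]
  have hFsurj : Function.Surjective F := by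
    rintro ⟨χ, hχdeg⟩
    have hχc : IsCharacter G (χ : G → ℂ) := IsIrrCharacter.isCharacter χ.2
    have hres : IsCharacter K (fun n : K => (χ : G → ℂ) n) := IsCharacter.comp K.subtype hχc
    have hne : (fun n : K => (χ : G → ℂ) n) ≠ 0 := by
      intro h
      have h1 := congrFun h 1
      obtain ⟨m, hm, hm'⟩ := Cfsg.Agent.Lib.Degree.irr_degree_natCast χ
      simp only [Subgroup.coe_one, Pi.zero_apply] at h1
      rw [hm'] at h1
      exact hm.ne' (by exact_mod_cast h1)
    obtain ⟨θ, hθ, hcon⟩ := exists_constituent hres hne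
    obtain ⟨e, he⟩ := classInner_isCharacter_nat hres (IsIrrCharacter.isCharacter hθ)
    have he0 : e ≠ 0 := by
      rintro rfl
      apply hcon
      rw [he]
      simp
    have hdeg := clifford_degree hK χ.2 hθ he he0
    have hT : K ≤ inertia hK θ := le_inertia hK (IsCharacter.isClassFunction (IsIrrCharacter.isCharacter hθ))
    have hT1 : (inertia hK θ).index ∣ Nat.card H :=
      (Subgroup.index_dvd_of_le hT).trans hidx
    have hT2 : (inertia hK θ).index ∣ charDegree (χ : G → ℂ) := by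
      rw [hdeg]
      exact Dvd.dvd.mul_right (Dvd.intro_left _ rfl) _
    have hT3 : (inertia hK θ).index = 1 := Nat.Coprime.eq_one_of_dvd (Nat.Coprime.coprime_dvd_left hT2 hχdeg) hT1
    have hT4 : inertia hK θ = ⊤ := Subgroup.index_eq_one.mp hT3
    have hinv : ∀ (g : G) (n : K), θ ⟨g * n * g⁻¹, hK.conj_mem n n.2 g⟩ = θ n := by
      intro g n
      have h1 : g ∈ inertia hK θ := by
        rw [hT4]
        trivial
      exact (mem_inertia_iff hK θ g).mp h1 n
    let ϑ : B := ⟨⟨θ, hθ⟩, hinv⟩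
    obtain ⟨β, ⟨hβ, hβK⟩, hβχ⟩ := (hgal ϑ).surjOn ⟨χ.2, hcon⟩
    have hβχ' : β * E ϑ = (χ : G → ℂ) := hβχ
    -- the degree
    obtain ⟨b, hb, hb0, -⟩ := IsIrrCharacter_degree_dvd hβ
    obtain ⟨d, hd, hd0, -⟩ := IsIrrCharacter_degree_dvd hθ
    have hχ1 : (χ : G → ℂ) 1 = ((b * d : ℕ) : ℂ) := by
      rw [← hβχ', Pi.mul_apply, hb]
      have h2 := hE' ϑ 1
      simp only [Subgroup.coe_one] at h2
      rw [h2]
      show (b : ℂ) * θ 1 = _
      rw [hd]
      push_cast
      ring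
    have hdegχ := charDegree_of_eq hχ1
    have hbdvd : b ∣ K.index := by
      obtain ⟨ψ, hψ⟩ := exists_inflate K (χ := ⟨β, hβ⟩) hβK
      obtain ⟨m, hm, -, hm'⟩ := IsIrrCharacter_degree_dvd ψ.2
      have h1 : β 1 = m := by
        have h2 := congrFun (congrArg Subtype.val hψ) 1
        simp only at h2
        rw [← h2]
        exact hm
      have h3 : (b : ℂ) = m := by rw [← hb, h1]
      have h4 : b = m := by exact_mod_cast h3
      rw [h4]
      exact hm'
    have hb1 : b = 1 := by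
      have h1 : b ∣ charDegree (χ : G → ℂ) := by
        rw [hdegχ]
        exact Dvd.intro _ rfl
      exact Nat.Coprime.eq_one_of_dvd (Nat.Coprime.coprime_dvd_left h1 hχdeg) (hbdvd.trans hidx)
    have hβdeg : charDegree β = 1 := by
      rw [charDegree_of_eq hb, hb1]
    refine ⟨(ϑ, ⟨⟨β, hβ⟩, hβdeg, hβK⟩), ?_⟩
    apply Subtype.ext
    apply Subtype.ext
    exact hβχ'
  have h1 : Nat.card {χ : IrrCharacter G // (charDegree (χ : G → ℂ)).Coprime (Nat.card H)} = Nat.card (B × L₁) :=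
    (Nat.card_eq_of_bijective F ⟨hFinj, hFsurj⟩).symm
  rw [h1, Nat.card_prod]
  congr 1
  -- the linear characters
  have hbot : K ⊓ H = ⊥ := Subgroup.inf_eq_bot_of_coprime hcop
  let f : H →* G ⧸ K := (QuotientGroup.mk' K).comp H.subtype
  have hfinj : Function.Injective f := by
    rw [injective_iff_map_eq_one]
    intro h hh
    have h2 : (h : G) ∈ K := (QuotientGroup.eq_one_iff _).mp hh
    have h3 : (h : G) ∈ K ⊓ H := ⟨h2, h.2⟩
    rw [hbot] at h3
    exact Subtype.ext h3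
  have hfsurj : Function.Surjective f := by
    intro q
    obtain ⟨g, rfl⟩ := QuotientGroup.mk_surjective q
    have h2 : g ∈ (K : Set G) * (H : Set G) := by
      rw [← Subgroup.normal_mul, hKH]
      trivial
    obtain ⟨k, hk, h, hh, rfl⟩ := Set.mem_mul.mp h2
    refine ⟨⟨h, hh⟩, ?_⟩
    show ((h : G) : G ⧸ K) = ((k * h : G) : G ⧸ K)
    rw [QuotientGroup.eq]
    have h3 : (h : G)⁻¹ * (k * h) = h⁻¹ * k * h := by group
    rw [h3]
    have := hK.conj_mem k hk h⁻¹
    simpa using this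
  let e : H ≃* G ⧸ K := MulEquiv.ofBijective f ⟨hfinj, hfsurj⟩
  let T : {ψ : IrrCharacter H // charDegree (ψ : H → ℂ) = 1} → L₁ := fun ψ =>
    ⟨inflate K ⟨(ψ.1 : H → ℂ) ∘ e.symm, isIrr_comp_equiv e.symm ψ.1.2⟩, by
      refine ⟨?_, inflate_kerContains K _⟩
      have h1 : ((inflate K ⟨(ψ.1 : H → ℂ) ∘ e.symm, isIrr_comp_equiv e.symm ψ.1.2⟩ : IrrCharacter G) : G → ℂ) =
        ((ψ.1 : H → ℂ) ∘ (e.symm : G ⧸ K ≃* H).toMonoidHom) ∘ (QuotientGroup.mk' K) := rfl
      rw [h1, charDegree_comp_monoidHom, charDegree_comp_monoidHom]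
      exact ψ.2⟩
  have hTinj : Function.Injective T := by
    intro x y hxy
    have h2 := inflate_injective K (congrArg Subtype.val hxy)
    apply Subtype.ext
    apply Subtype.ext
    funext h
    have h3 := congrFun (congrArg Subtype.val h2) (e h)
    simpa using h3
  have hTsurj : Function.Surjective T := by
    rintro ⟨β, hdeg, hker⟩
    obtain ⟨ψ, hψ⟩ := exists_inflate K hker
    have h2 : IsIrrCharacter H ((ψ : G ⧸ K → ℂ) ∘ e) := isIrr_comp_equiv e ψ.2
    have h3 : charDegree ((ψ : G ⧸ K → ℂ) ∘ e) = 1 := by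
      have h4 : charDegree ((ψ : G ⧸ K → ℂ) ∘ e) = charDegree (ψ : G ⧸ K → ℂ) :=
        charDegree_comp_monoidHom (e : H →* G ⧸ K) _
      have h5 : charDegree ((β : IrrCharacter G) : G → ℂ) = charDegree (ψ : G ⧸ K → ℂ) := by
        rw [← hψ]
        exact charDegree_comp_monoidHom (QuotientGroup.mk' K) _
      rw [h4, ← h5, hdeg]
    refine ⟨⟨⟨_, h2⟩, h3⟩, ?_⟩
    apply Subtype.ext
    show inflate K _ = β
    rw [← hψ]
    congr 1
    apply Subtype.ext
    funext q
    simp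
  exact (Nat.card_eq_of_bijective T ⟨hTinj, hTsurj⟩).symm

end Count

end Cfsg.Agent.Lib.Coprime
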