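import Mathlib
import Cfsg.Agent.Lib.Coprime.GlauberSol
import Cfsg.Agent.Lib.Char.Brauer
import Cfsg.Agent.Lib.CharExtra.Ito
import Cfsg.Agent.Lib.Degree.Sums

/-!
# Invariant characters above and below an invariant character under coprime action
-/

set_option autoImplicit false
set_option linter.style.haveILetI false
set_option linter.unusedSectionVars false
set_option linter.unusedSimpArgs false
set_option linter.unnecessarySimpa false

open scoped ComplexConjugate Pointwise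
open Cfsg Cfsg.Agent.Lib.Char

namespace Cfsg.Agent.Lib.Coprime

universe u

section Gl

/-- Glauberman's lemma, with a subgroup acting trivially. -/
theorem glauberman_exists_quot {S D Ω : Type*} [Group S] [Group D] [Finite S] [Finite D] (S₀ : Subgroup S)
    [S₀.Normal] [Nonempty Ω] (φD : S →* MulAut D) (φΩ : S →* Equiv.Perm Ω) (act : D →* Equiv.Perm Ω)
    (h0D : ∀ s ∈ S₀, φD s = 1) (h0Ω : ∀ s ∈ S₀, φΩ s = 1)
    (hcompat : ∀ s d w, φΩ s (act d w) = act (φD s d) (φΩ s w))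
    (htrans : ∀ v w, ∃ d, act d v = w)
    (hcop : (S₀.index).Coprime (Nat.card D)) (hsol : Group.IsSolvable (S ⧸ S₀) ∨ Group.IsSolvable D) :
    ∃ w, ∀ s, φΩ s w = w := by
  let φD' : S ⧸ S₀ →* MulAut D := QuotientGroup.lift S₀ φD h0D
  let φΩ' : S ⧸ S₀ →* Equiv.Perm Ω := QuotientGroup.lift S₀ φΩ h0Ω
  letI i1 : MulDistribMulAction (S ⧸ S₀) D := MulDistribMulAction.compHom D φD'
  letI i2 : MulAction (S ⧸ S₀) Ω := MulAction.compHom Ω φΩ'
  letI i3 : MulAction D Ω := MulAction.compHom Ω act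
  have hcompat' : ∀ (a : S ⧸ S₀) (g : D) (w : Ω), a • (g • w) = (a • g) • (a • w) := by
    intro a g w
    obtain ⟨s, rfl⟩ := QuotientGroup.mk_surjective a
    exact hcompat s g w
  have htrans' : MulAction.IsPretransitive D Ω := ⟨fun v w => htrans v w⟩
  have hc : (Nat.card (S ⧸ S₀)).Coprime (Nat.card D) := hcop
  obtain ⟨w, hw⟩ := glauberman_exists (A := S ⧸ S₀) (G := D) (Ω := Ω) hcompat' htrans' hc hsol
  exact ⟨w, fun s => hw (s : S ⧸ S₀)⟩

/-- The same for a dual group, with a generic target. -/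
theorem glauberman_dual {S Q M Ω : Type*} [Group S] [CommGroup Q] [CommGroup M] [Finite S] [Finite (Q →* M)] (S₀ : Subgroup S)
    [S₀.Normal] [Nonempty Ω] (φD : S →* MulAut (Q →* M)) (φΩ : S →* Equiv.Perm Ω) (act : (Q →* M) →* Equiv.Perm Ω)
    (h0D : ∀ s ∈ S₀, φD s = 1) (h0Ω : ∀ s ∈ S₀, φΩ s = 1)
    (hcompat : ∀ s d w, φΩ s (act d w) = act (φD s d) (φΩ s w))
    (htrans : ∀ v w, ∃ d, act d v = w)
    (hcop : (S₀.index).Coprime (Nat.card (Q →* M))) :
    ∃ w, ∀ s, φΩ s w = w :=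
  glauberman_exists_quot S₀ φD φΩ act h0D h0Ω hcompat htrans hcop
    (Or.inr (Group.isSolvable_of_comm (fun x y => mul_comm x y)))

end Gl

section Perm

/-- Restriction of a permutation action to an invariant subset. -/
def subtypeHom {S X : Type*} [Group S] (f : S →* Equiv.Perm X) (P : X → Prop) (hP : ∀ s x, P x → P (f s x)) :
    S →* Equiv.Perm {x // P x} where
  toFun s :=
    { toFun := fun x => ⟨f s x.1, hP s x.1 x.2⟩
      invFun := fun x => ⟨f s⁻¹ x.1, hP s⁻¹ x.1 x.2⟩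
      left_inv := fun x => Subtype.ext (by
        show f s⁻¹ (f s x.1) = x.1
        rw [← Equiv.Perm.mul_apply, ← map_mul]
        simp)
      right_inv := fun x => Subtype.ext (by
        show f s (f s⁻¹ x.1) = x.1
        rw [← Equiv.Perm.mul_apply, ← map_mul]
        simp) }
  map_one' := by
    ext x
    simp
  map_mul' a b := by
    ext x
    simp

@[simp] theorem subtypeHom_coe {S X : Type*} [Group S] (f : S →* Equiv.Perm X) (P : X → Prop)
    (hP : ∀ s x, P x → P (f s x)) (s : S) (x : {x // P x}) : ((subtypeHom f P hP s x : {x // P x}) : X) = f s x.1 := rfl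

end Perm

section Act

variable {S G : Type u} [Group S] [Group G]

/-- The action on irreducible characters. -/
noncomputable def irrPerm (φ : S →* MulAut G) : S →* Equiv.Perm (IrrCharacter G) where
  toFun s :=
    { toFun := fun χ => ⟨(χ : G → ℂ) ∘ φ s⁻¹, isIrr_comp_equiv (φ s⁻¹) χ.2⟩
      invFun := fun χ => ⟨(χ : G → ℂ) ∘ φ s, isIrr_comp_equiv (φ s) χ.2⟩
      left_inv := fun χ => by
        apply Subtype.ext
        funext g
        simp
      right_inv := fun χ => by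
        apply Subtype.ext
        funext g
        simp }
  map_one' := by
    ext χ g
    simp
  map_mul' a b := by
    ext χ g
    simp

@[simp] theorem irrPerm_apply (φ : S →* MulAut G) (s : S) (χ : IrrCharacter G) (g : G) :
    ((irrPerm φ s χ : IrrCharacter G) : G → ℂ) g = (χ : G → ℂ) (φ s⁻¹ g) := rfl

theorem irrPerm_eq_iff (φ : S →* MulAut G) (χ : IrrCharacter G) :
    (∀ s, irrPerm φ s χ = χ) ↔ IsInv φ (χ : G → ℂ) := by
  constructor
  · intro h a y
    have h1 : (χ : G → ℂ) (φ (a⁻¹)⁻¹ y) = (χ : G → ℂ) y := congrFun (congrArg Subtype.val (h a⁻¹)) y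
    rw [inv_inv] at h1
    exact h1
  · intro h s
    apply Subtype.ext
    funext g
    exact h s⁻¹ g

variable (φ : S →* MulAut G) (N : Subgroup G) [hN : N.Normal]

/-- The action on a quotient. -/
noncomputable def quotMulAut (hNφ : ∀ a, ∀ n ∈ N, φ a n ∈ N) : S →* MulAut (G ⧸ N) where
  toFun s :=
    { toFun := QuotientGroup.map N N (φ s : G →* G) (fun n hn => hNφ s n hn)
      invFun := QuotientGroup.map N N (φ s⁻¹ : G →* G) (fun n hn => hNφ s⁻¹ n hn)
      left_inv := fun q => by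
        obtain ⟨g, rfl⟩ := QuotientGroup.mk_surjective q
        show ((φ s⁻¹ (φ s g) : G) : G ⧸ N) = g
        have h1 : φ s⁻¹ (φ s g) = g := by simp
        rw [h1]
      right_inv := fun q => by
        obtain ⟨g, rfl⟩ := QuotientGroup.mk_surjective q
        show ((φ s (φ s⁻¹ g) : G) : G ⧸ N) = g
        have h1 : φ s (φ s⁻¹ g) = g := by simp
        rw [h1]
      map_mul' := fun x y => map_mul _ x y }
  map_one' := by
    ext q
    obtain ⟨g, rfl⟩ := QuotientGroup.mk_surjective q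
    show ((φ 1 g : G) : G ⧸ N) = g
    simp
  map_mul' a b := by
    ext q
    obtain ⟨g, rfl⟩ := QuotientGroup.mk_surjective q
    show ((φ (a * b) g : G) : G ⧸ N) = ((φ a (φ b g) : G) : G ⧸ N)
    simp

theorem quotMulAut_mk (hNφ : ∀ a, ∀ n ∈ N, φ a n ∈ N) (s : S) (g : G) :
    quotMulAut φ N hNφ s (g : G ⧸ N) = ((φ s g : G) : G ⧸ N) := rfl

end Act

section Abelian

variable {S G : Type u} [Group S] [Group G] [Finite S] [Finite G]

/-- Restriction to an invariant normal subgroup of an invariant character has an invariant inner product. -/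
theorem classInner_restrict_aut (N : Subgroup G) [Fintype N] (α : MulAut G) (hα : ∀ n ∈ N, α n ∈ N) (hα' : ∀ n ∈ N, α⁻¹ n ∈ N)
    (χ : G → ℂ) {θ : N → ℂ} (hθ : ∀ n : N, θ ⟨α n, hα n n.2⟩ = θ n) :
    classInner (fun n : N => (χ ∘ α) n) θ = classInner (fun n : N => χ n) θ := by
  let β : N ≃* N :=
    { toFun := fun n => ⟨α n, hα n n.2⟩
      invFun := fun n => ⟨α⁻¹ n, hα' n n.2⟩
      left_inv := fun n => Subtype.ext (by simp)
      right_inv := fun n => Subtype.ext (by simp)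
      map_mul' := fun x y => Subtype.ext (by simp) }
  have h1 : (fun n : N => (χ ∘ α) n) = (fun n : N => χ n) ∘ β := rfl
  have h2 : θ = θ ∘ β := by
    funext n
    exact (hθ n).symm
  rw [h1]
  conv_lhs => rw [h2]
  exact classInner_comp_equiv β _ _

section Dual

variable {Q : Type u} [CommGroup Q]

/-- A linear character of a quotient pulled back. -/
noncomputable def tl (π : G →* Q) (l : Q →* ℂˣ) (g : G) : ℂ := ((l (π g) : ℂˣ) : ℂ)

theorem tl_isCharacter (π : G →* Q) (l : Q →* ℂˣ) : IsCharacter G (tl π l) :=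
  IsIrrCharacter.isCharacter (isIrrCharacter_of_hom (l.comp π))

theorem tl_map_one (π : G →* Q) (l : Q →* ℂˣ) : tl π l 1 = 1 := by
  simp [tl]

theorem tl_one (π : G →* Q) (g : G) : tl π (1 : Q →* ℂˣ) g = 1 := by
  simp [tl]

theorem tl_mul (π : G →* Q) (a b : Q →* ℂˣ) (g : G) : tl π (a * b) g = tl π a g * tl π b g := by
  simp [tl]

theorem tl_inv_mul (π : G →* Q) (a : Q →* ℂˣ) (g : G) : tl π a⁻¹ g * tl π a g = 1 := by
  simp [tl]

theorem tl_mul_inv (π : G →* Q) (a : Q →* ℂˣ) (g : G) : tl π a g * tl π a⁻¹ g = 1 := by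
  simp [tl]

theorem isIrr_mul_tl (π : G →* Q) (l : Q →* ℂˣ) (χ : IrrCharacter G) : IsIrrCharacter G ((χ : G → ℂ) * tl π l) := by
  classical
  letI : Fintype G := Fintype.ofFinite _
  exact isIrr_mul_linear χ.2 (tl_isCharacter π l) (tl_map_one π l)

/-- The action of linear characters on irreducible characters. -/
noncomputable def mulPerm (π : G →* Q) : (Q →* ℂˣ) →* Equiv.Perm (IrrCharacter G) where
  toFun l :=
    { toFun := fun χ => ⟨_, isIrr_mul_tl π l χ⟩
      invFun := fun χ => ⟨_, isIrr_mul_tl π l⁻¹ χ⟩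
      left_inv := fun χ => by
        apply Subtype.ext
        funext g
        show (χ : G → ℂ) g * tl π l g * tl π l⁻¹ g = (χ : G → ℂ) g
        rw [mul_assoc, tl_mul_inv, mul_one]
      right_inv := fun χ => by
        apply Subtype.ext
        funext g
        show (χ : G → ℂ) g * tl π l⁻¹ g * tl π l g = (χ : G → ℂ) g
        rw [mul_assoc, tl_inv_mul, mul_one] }
  map_one' := by
    ext χ g
    show (χ : G → ℂ) g * tl π 1 g = (χ : G → ℂ) g
    rw [tl_one, mul_one]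
  map_mul' a b := by
    ext χ g
    show (χ : G → ℂ) g * tl π (a * b) g = (χ : G → ℂ) g * tl π b g * tl π a g
    rw [tl_mul]
    ring

theorem mulPerm_apply (π : G →* Q) (l : Q →* ℂˣ) (χ : IrrCharacter G) (g : G) :
    ((mulPerm π l χ : IrrCharacter G) : G → ℂ) g = (χ : G → ℂ) g * tl π l g := rfl

/-- The action on the dual group. -/
noncomputable def dualAut (q : S →* MulAut Q) : S →* MulAut (Q →* ℂˣ) where
  toFun s :=
    { toFun := fun l => l.comp (q s⁻¹ : Q →* Q)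
      invFun := fun l => l.comp (q s : Q →* Q)
      left_inv := fun l => by
        ext x
        show ((l (q s⁻¹ (q s x)) : ℂˣ) : ℂ) = ((l x : ℂˣ) : ℂ)
        simp
      right_inv := fun l => by
        ext x
        show ((l (q s (q s⁻¹ x)) : ℂˣ) : ℂ) = ((l x : ℂˣ) : ℂ)
        simp
      map_mul' := fun a b => rfl }
  map_one' := by
    ext l x
    show ((l (q (1 : S)⁻¹ x) : ℂˣ) : ℂ) = ((l x : ℂˣ) : ℂ)
    simp
  map_mul' a b := by
    ext l x
    show ((l (q (a * b)⁻¹ x) : ℂˣ) : ℂ) = ((l (q b⁻¹ (q a⁻¹ x)) : ℂˣ) : ℂ)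
    simp

theorem dualAut_apply (q : S →* MulAut Q) (s : S) (l : Q →* ℂˣ) (x : Q) : dualAut q s l x = l (q s⁻¹ x) := rfl

variable [Finite Q] [Fintype G]

open Classical in
theorem sum_tl [Fintype (Q →* ℂˣ)] (π : G →* Q) (g : G) :
    ∑ l : Q →* ℂˣ, tl π l g = if π g = 1 then (Fintype.card (Q →* ℂˣ) : ℂ) else 0 := by
  classical
  split_ifs with hg
  · have h1 : ∀ l : Q →* ℂˣ, tl π l g = 1 := by
      intro l
      simp [tl, hg]
    rw [Finset.sum_congr rfl (fun l _ => h1 l)]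
    simp
  · obtain ⟨l₀, hl₀⟩ := CommGroup.exists_apply_ne_one_of_hasEnoughRootsOfUnity Q ℂ hg
    have h1 : ∑ l : Q →* ℂˣ, tl π l g = tl π l₀ g * ∑ l : Q →* ℂˣ, tl π l g := by
      rw [Finset.mul_sum]
      refine (Fintype.sum_equiv (Equiv.mulLeft l₀) _ _ fun l => ?_).symm
      show tl π l₀ g * tl π l g = tl π (l₀ * l) g
      rw [tl_mul]
    have h2 : tl π l₀ g ≠ 1 := fun h => hl₀ (Units.ext h)
    have h3 : (1 - tl π l₀ g) * ∑ l : Q →* ℂˣ, tl π l g = 0 := by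
      rw [sub_mul, one_mul, ← h1, sub_self]
    rcases mul_eq_zero.mp h3 with h4 | h4
    · exact absurd (sub_eq_zero.mp h4).symm h2
    · exact h4

/-- Two irreducible characters whose restrictions to the kernel are not orthogonal differ by a linear character. -/
theorem exists_tl_of_ne (π : G →* Q) (N : Subgroup G) [Fintype N] (hker : ∀ g, π g = 1 ↔ g ∈ N) (v w : IrrCharacter G)
    (hne : classInner (fun n : N => (v : G → ℂ) n) (fun n : N => (w : G → ℂ) n) ≠ 0) :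
    ∃ l : Q →* ℂˣ, mulPerm π l v = w := by
  classical
  letI : Fintype (Q →* ℂˣ) := Fintype.ofFinite _
  by_contra hcon
  push Not at hcon
  have h0 : ∀ l : Q →* ℂˣ, classInner ((v : G → ℂ) * tl π l) (w : G → ℂ) = 0 := by
    intro l
    refine classInner_irr_of_ne (isIrr_mul_tl π l v) w.2 fun h => hcon l ?_
    apply Subtype.ext
    exact h
  have h1 : ∑ l : Q →* ℂˣ, classInner ((v : G → ℂ) * tl π l) (w : G → ℂ) = 0 :=
    Finset.sum_eq_zero fun l _ => h0 l
  have h2 : ∑ l : Q →* ℂˣ, classInner ((v : G → ℂ) * tl π l) (w : G → ℂ) =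
      (Nat.card G : ℂ)⁻¹ * ((Fintype.card (Q →* ℂˣ) : ℂ) * ∑ n : N, (v : G → ℂ) n * conj ((w : G → ℂ) n)) := by
    simp only [classInner_def, ← Finset.mul_sum]
    congr 1
    have h3 : ∀ g : G, ∑ l : Q →* ℂˣ, ((v : G → ℂ) * tl π l) g * conj ((w : G → ℂ) g) =
        (if g ∈ N then (Fintype.card (Q →* ℂˣ) : ℂ) * ((v : G → ℂ) g * conj ((w : G → ℂ) g)) else 0) := by
      intro g
      have h4 : ∀ l : Q →* ℂˣ, ((v : G → ℂ) * tl π l) g * conj ((w : G → ℂ) g) =
          tl π l g * ((v : G → ℂ) g * conj ((w : G → ℂ) g)) := by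
        intro l
        rw [Pi.mul_apply]
        ring
      simp only [h4, ← Finset.sum_mul, sum_tl, hker]
      split_ifs <;> simp
    rw [Finset.sum_comm, Finset.sum_congr rfl (fun g _ => h3 g), ← Finset.sum_filter, ← Finset.mul_sum]
    congr 1
    exact Finset.sum_subtype _ (by simp) _
  rw [h2] at h1
  have h3 : (Nat.card G : ℂ)⁻¹ ≠ 0 := inv_ne_zero (by exact_mod_cast Nat.card_pos.ne')
  have h4 : (Fintype.card (Q →* ℂˣ) : ℂ) ≠ 0 := by exact_mod_cast Fintype.card_ne_zero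
  have h5 : ∑ n : N, (v : G → ℂ) n * conj ((w : G → ℂ) n) = 0 := by
    rcases mul_eq_zero.mp h1 with h6 | h6
    · exact absurd h6 h3
    · rcases mul_eq_zero.mp h6 with h7 | h7
      · exact absurd h7 h4
      · exact h7
  apply hne
  rw [classInner_def, h5, mul_zero]

end Dual

/-- The auxiliary form of the abelian invariant case. -/
theorem above_abelian_aux {Q : Type u} [CommGroup Q] [Finite Q] (π : G →* Q) (hπ : Function.Surjective π)
    (φ : S →* MulAut G) (q : S →* MulAut Q) (hq : ∀ s g, q s (π g) = π (φ s g))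
    (S₀ : Subgroup S) [S₀.Normal] (N : Subgroup G) [hN : N.Normal] [Fintype N] (hker : ∀ g, π g = 1 ↔ g ∈ N)
    (hNφ : ∀ a, ∀ n ∈ N, φ a n ∈ N) (hS₀ : ∀ s ∈ S₀, ∃ n ∈ N, ∀ g, φ s g = n * g * n⁻¹)
    (hcop : (S₀.index).Coprime (Nat.card Q)) (θ : IrrCharacter N)
    (hθG : ∀ (g : G) (n : N), (θ : N → ℂ) ⟨g * n * g⁻¹, hN.conj_mem n n.2 g⟩ = (θ : N → ℂ) n)
    (hθS : ∀ (a : S) (n : N), (θ : N → ℂ) ⟨φ a n, hNφ a n n.2⟩ = (θ : N → ℂ) n) :
    ∃ χ : IrrCharacter G, classInner (fun n : N => (χ : G → ℂ) n) (θ : N → ℂ) ≠ 0 ∧ IsInv φ (χ : G → ℂ) := by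
  classical
  letI : Fintype G := Fintype.ofFinite _
  have htlN : ∀ (l : Q →* ℂˣ) (n : N), tl π l n = 1 := by
    intro l n
    have h1 : π n = 1 := (hker _).mpr n.2
    simp [tl, h1]
  let P : IrrCharacter G → Prop := fun χ => classInner (fun n : N => (χ : G → ℂ) n) (θ : N → ℂ) ≠ 0
  have hP1 : ∀ (l : Q →* ℂˣ) (χ : IrrCharacter G), P χ → P (mulPerm π l χ) := by
    intro l χ hχ
    have h1 : (fun n : N => ((mulPerm π l χ : IrrCharacter G) : G → ℂ) n) = fun n : N => (χ : G → ℂ) n := by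
      funext n
      rw [mulPerm_apply, htlN, mul_one]
    show classInner (fun n : N => ((mulPerm π l χ : IrrCharacter G) : G → ℂ) n) (θ : N → ℂ) ≠ 0
    rw [h1]
    exact hχ
  have hP2 : ∀ (s : S) (χ : IrrCharacter G), P χ → P (irrPerm φ s χ) := by
    intro s χ hχ
    show classInner (fun n : N => ((irrPerm φ s χ : IrrCharacter G) : G → ℂ) n) (θ : N → ℂ) ≠ 0
    have h1 := classInner_restrict_aut N (φ s⁻¹) (fun n hn => hNφ _ n hn)
      (fun n hn => by
        have h2 := hNφ s n hn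
        simpa using h2)
      (χ : G → ℂ) (θ := (θ : N → ℂ)) (fun n => hθS s⁻¹ n)
    have h3 : (fun n : N => ((irrPerm φ s χ : IrrCharacter G) : G → ℂ) n) = fun n : N => ((χ : G → ℂ) ∘ φ s⁻¹) n := rfl
    rw [h3, h1]
    exact hχ
  let act : (Q →* ℂˣ) →* Equiv.Perm {χ // P χ} := subtypeHom (mulPerm π) P hP1
  let φΩ : S →* Equiv.Perm {χ // P χ} := subtypeHom (irrPerm φ) P hP2
  have hS₀triv : ∀ s ∈ S₀, q s⁻¹ = 1 := by
    intro s hs
    obtain ⟨n, hn, h1⟩ := hS₀ s⁻¹ (S₀.inv_mem hs)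
    ext x
    obtain ⟨g, rfl⟩ := hπ x
    rw [hq, h1, map_mul, map_mul, map_inv, (hker n).mpr hn]
    simp
  have h0D : ∀ s ∈ S₀, dualAut q s = 1 := by
    intro s hs
    ext l x
    rw [dualAut_apply, hS₀triv s hs]
    rfl
  have h0Ω : ∀ s ∈ S₀, φΩ s = 1 := by
    intro s hs
    ext χ g
    show (χ.1 : G → ℂ) (φ s⁻¹ g) = (χ.1 : G → ℂ) g
    obtain ⟨n, hn, h1⟩ := hS₀ s⁻¹ (S₀.inv_mem hs)
    rw [h1]
    exact IsCharacter.isClassFunction (IsIrrCharacter.isCharacter χ.1.2) g n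
  have hcompat : ∀ s l w, φΩ s (act l w) = act (dualAut q s l) (φΩ s w) := by
    intro s l w
    apply Subtype.ext
    apply Subtype.ext
    funext g
    show (w.1 : G → ℂ) (φ s⁻¹ g) * tl π l (φ s⁻¹ g) = (w.1 : G → ℂ) (φ s⁻¹ g) * tl π (dualAut q s l) g
    congr 1
    show ((l (π (φ s⁻¹ g)) : ℂˣ) : ℂ) = ((l (q s⁻¹ (π g)) : ℂˣ) : ℂ)
    rw [hq]
  -- transitivity
  have hGinv : ∀ g, conjFn hN g (θ : N → ℂ) = (θ : N → ℂ) := fun g => funext (hθG g)
  have hres : ∀ χ : {χ // P χ}, (fun n : N => (χ.1 : G → ℂ) n) =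
      classInner (fun n : N => (χ.1 : G → ℂ) n) (θ : N → ℂ) • (θ : N → ℂ) :=
    fun χ => clifford_invariant hN χ.1.2 θ.2 hGinv χ.2
  have htrans : ∀ v w : {χ // P χ}, ∃ l, act l v = w := by
    intro v w
    have h6 : classInner (fun n : N => (v.1 : G → ℂ) n) (fun n : N => (w.1 : G → ℂ) n) ≠ 0 := by
      rw [hres v, hres w, classInner_smul_left, classInner_smul_right, classInner_irr_self θ.2]
      have h7 := v.2
      have h8 := w.2
      simp only [mul_one, mul_eq_zero, ne_eq, map_eq_zero, not_or]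
      exact ⟨h7, h8⟩
    obtain ⟨l, hl⟩ := exists_tl_of_ne π N hker v.1 w.1 h6
    exact ⟨l, Subtype.ext hl⟩
  obtain ⟨χ₀, hχ₀, hne₀⟩ := Cfsg.Agent.Lib.CharExtra.exists_irr_over N θ.2
  haveI : Nonempty {χ // P χ} := ⟨⟨⟨χ₀, hχ₀⟩, hne₀⟩⟩
  have hDcard : Nat.card (Q →* ℂˣ) = Nat.card Q := CommGroup.card_monoidHom_of_hasEnoughRootsOfUnity Q ℂ
  have hcopD : (S₀.index).Coprime (Nat.card (Q →* ℂˣ)) := by
    rw [hDcard]
    exact hcop
  obtain ⟨w, hw⟩ := glauberman_dual S₀ (dualAut q) φΩ act h0D h0Ω hcompat htrans hcopD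
  refine ⟨w.1, w.2, ?_⟩
  rw [← irrPerm_eq_iff]
  intro s
  exact congrArg Subtype.val (hw s)

/-- Step 1a: the abelian invariant case. -/
theorem above_abelian_inv (φ : S →* MulAut G) (S₀ : Subgroup S) [S₀.Normal] (N : Subgroup G) [hN : N.Normal] [Fintype N]
    (hNφ : ∀ a, ∀ n ∈ N, φ a n ∈ N) (hS₀ : ∀ s ∈ S₀, ∃ n ∈ N, ∀ g, φ s g = n * g * n⁻¹)
    (hcop : (S₀.index).Coprime N.index) (hab : ∀ x y : G, x * y * x⁻¹ * y⁻¹ ∈ N) (θ : IrrCharacter N)
    (hθG : ∀ (g : G) (n : N), (θ : N → ℂ) ⟨g * n * g⁻¹, hN.conj_mem n n.2 g⟩ = (θ : N → ℂ) n)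
    (hθS : ∀ (a : S) (n : N), (θ : N → ℂ) ⟨φ a n, hNφ a n n.2⟩ = (θ : N → ℂ) n) :
    ∃ χ : IrrCharacter G, classInner (fun n : N => (χ : G → ℂ) n) (θ : N → ℂ) ≠ 0 ∧ IsInv φ (χ : G → ℂ) := by
  classical
  have hQcomm : ∀ a b : G ⧸ N, a * b = b * a := by
    intro a b
    obtain ⟨x, rfl⟩ := QuotientGroup.mk_surjective a
    obtain ⟨y, rfl⟩ := QuotientGroup.mk_surjective b
    rw [← QuotientGroup.mk_mul, ← QuotientGroup.mk_mul, QuotientGroup.eq]
    have h1 : (x * y)⁻¹ * (y * x) = y⁻¹ * x⁻¹ * y * x := by group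
    rw [h1]
    have h2 := hab y⁻¹ x⁻¹
    simpa using h2
  letI iQ : CommGroup (G ⧸ N) := { (inferInstance : Group (G ⧸ N)) with mul_comm := hQcomm }
  exact above_abelian_aux (Q := G ⧸ N) (QuotientGroup.mk' N) (QuotientGroup.mk'_surjective N) φ (quotMulAut φ N hNφ)
    (fun s g => rfl) S₀ N (fun g => QuotientGroup.eq_one_iff g) hNφ hS₀ hcop θ hθG hθS

/-- An automorphism stabilizing the subgroup and the character fixes the induced function. -/
theorem indFun_aut [Fintype G] (T : Subgroup G) (α : MulAut G) (hα : ∀ t ∈ T, α t ∈ T) (hα' : ∀ t ∈ T, α⁻¹ t ∈ T) {η : T → ℂ}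
    (hη : ∀ t : T, η ⟨α t, hα t t.2⟩ = η t) (g : G) : indFun T η (α g) = indFun T η g := by
  classical
  have hext : ∀ w : G, extendByZero T η (α w) = extendByZero T η w := by
    intro w
    by_cases hw : w ∈ T
    · have h1 := extendByZero_of_mem T η hw
      have h2 := extendByZero_of_mem T η (hα w hw)
      rw [h1, h2]
      exact hη ⟨w, hw⟩
    · have hw' : α w ∉ T := by
        intro h
        apply hw
        have h3 := hα' _ h
        simpa using h3
      rw [extendByZero_of_not_mem T η hw, extendByZero_of_not_mem T η hw']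
  simp only [indFun_apply]
  congr 1
  rw [← Equiv.sum_comp α.toEquiv]
  refine Finset.sum_congr rfl fun x _ => ?_
  have h1 : (α.toEquiv x)⁻¹ * α g * α.toEquiv x = α (x⁻¹ * g * x) := by
    simp
  rw [h1, hext]

/-- Transitivity of lying over. -/
theorem over_trans {A B C : Type u} [Group A] [Group B] [Group C] [Fintype A] [Fintype B] [Fintype C] (i : A →* B) (j : B →* C)
    {χ : C → ℂ} {ξ : B → ℂ} {θ : A → ℂ} (hχ : IsCharacter C χ) (hξ : IsIrrCharacter B ξ) (hθ : IsCharacter A θ)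
    (h1 : classInner (fun b => χ (j b)) ξ ≠ 0) (h2 : classInner (fun a => ξ (i a)) θ ≠ 0) :
    classInner (fun a => χ (j (i a))) θ ≠ 0 := by
  classical
  have hφ : IsCharacter B (fun b => χ (j b)) := IsCharacter.comp j hχ
  obtain ⟨c, hc⟩ := character_eq_sum_nat hφ
  have hcoef : ∀ β : IrrCharacter B, classInner (fun b => χ (j b)) (β : B → ℂ) = (c β : ℂ) := by
    intro β
    rw [hc]
    simp only [classInner_sum_left, classInner_smul_left]
    rw [Finset.sum_eq_single β]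
    · rw [classInner_irr_self β.2, mul_one]
    · intro β' _ hne
      rw [classInner_irr_of_ne β'.2 β.2 (fun h => hne (Subtype.ext h)), mul_zero]
    · simp
  have hnat : ∀ β : IrrCharacter B, ∃ m : ℕ, classInner (fun a => (β : B → ℂ) (i a)) θ = m := fun β =>
    classInner_isCharacter_nat (IsCharacter.comp i (IsIrrCharacter.isCharacter β.2)) hθ
  choose m hm using hnat
  have h3 : (fun a => χ (j (i a))) = ∑ β : IrrCharacter B, (c β : ℂ) • (fun a => (β : B → ℂ) (i a)) := by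
    funext a
    have h4 := congrFun hc (i a)
    simpa [Finset.sum_apply] using h4
  rw [h3]
  simp only [classInner_sum_left, classInner_smul_left, hm]
  have h5 : c ⟨ξ, hξ⟩ ≠ 0 := by
    intro h
    apply h1
    have h6 := hcoef ⟨ξ, hξ⟩
    simp only at h6
    rw [h6, h]
    simp
  have h6 : m ⟨ξ, hξ⟩ ≠ 0 := by
    intro h
    apply h2
    have h7 := hm ⟨ξ, hξ⟩
    simp only at h7
    rw [h7, h]
    simp
  have h7 : (∑ β : IrrCharacter B, (c β : ℂ) * (m β : ℂ)) = ((∑ β : IrrCharacter B, c β * m β : ℕ) : ℂ) := by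
    push_cast
    rfl
  rw [h7]
  have h8 : 0 < ∑ β : IrrCharacter B, c β * m β :=
    Finset.sum_pos' (fun _ _ => Nat.zero_le _) ⟨⟨ξ, hξ⟩, Finset.mem_univ _, Nat.mul_pos (Nat.pos_of_ne_zero h5) (Nat.pos_of_ne_zero h6)⟩
  exact_mod_cast h8.ne'

/-- Step 1b: the abelian case. -/
theorem above_abelian (φ : S →* MulAut G) (S₀ : Subgroup S) [S₀.Normal] (N : Subgroup G) [hN : N.Normal] [Fintype N]
    (hNφ : ∀ a, ∀ n ∈ N, φ a n ∈ N) (hS₀ : ∀ s ∈ S₀, ∃ n ∈ N, ∀ g, φ s g = n * g * n⁻¹)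
    (hcop : (S₀.index).Coprime N.index) (hab : ∀ x y : G, x * y * x⁻¹ * y⁻¹ ∈ N) (θ : IrrCharacter N)
    (hθS : ∀ (a : S) (n : N), (θ : N → ℂ) ⟨φ a n, hNφ a n n.2⟩ = (θ : N → ℂ) n) :
    ∃ χ : IrrCharacter G, classInner (fun n : N => (χ : G → ℂ) n) (θ : N → ℂ) ≠ 0 ∧ IsInv φ (χ : G → ℂ) := by
  classical
  letI : Fintype G := Fintype.ofFinite _
  let T : Subgroup G := inertia hN (θ : N → ℂ)
  have hNT : N ≤ T := le_inertia hN (IsCharacter.isClassFunction (IsIrrCharacter.isCharacter θ.2))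
  letI : Fintype T := Fintype.ofFinite _
  have hTφ : ∀ a, ∀ t ∈ T, φ a t ∈ T := by
    intro a t ht
    rw [mem_inertia_iff] at ht ⊢
    intro n
    have hn' : φ a⁻¹ n ∈ N := hNφ _ _ n.2
    have h1 := ht ⟨_, hn'⟩
    have h2 := hθS a ⟨_, hN.conj_mem _ hn' t⟩
    have h3 := hθS a ⟨_, hn'⟩
    have h3' : (θ : N → ℂ) n = (θ : N → ℂ) ⟨_, hn'⟩ := by
      rw [← h3]
      refine congrArg _ (Subtype.ext ?_)
      simp
    rw [h3', ← h1, ← h2]
    refine congrArg _ (Subtype.ext ?_)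
    show φ a t * n * (φ a t)⁻¹ = φ a (t * φ a⁻¹ n * t⁻¹)
    simp
  let N₁ : Subgroup T := N.subgroupOf T
  letI : Fintype N₁ := Fintype.ofFinite _
  let ι : N₁ ≃* N := Subgroup.subgroupOfEquivOfLe hNT
  have hι : ∀ n : N₁, ((ι n : N) : G) = n.1.1 := fun _ => rfl
  let θ₁ : IrrCharacter N₁ := ⟨(θ : N → ℂ) ∘ ι, isIrr_comp_equiv ι θ.2⟩
  let φT : S →* MulAut T := restrictHom φ T hTφ
  have hφT : ∀ a (t : T), ((φT a t : T) : G) = φ a t := fun _ _ => rfl
  have hN₁φ : ∀ a, ∀ n ∈ N₁, φT a n ∈ N₁ := fun a n hn => hNφ a _ hn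
  have hS₀₁ : ∀ s ∈ S₀, ∃ n ∈ N₁, ∀ g, φT s g = n * g * n⁻¹ := by
    intro s hs
    obtain ⟨n, hn, h1⟩ := hS₀ s hs
    exact ⟨⟨n, hNT hn⟩, hn, fun g => Subtype.ext (h1 g)⟩
  have hcop₁ : (S₀.index).Coprime N₁.index :=
    Nat.Coprime.coprime_dvd_right (Subgroup.relIndex_dvd_index_of_normal N T) hcop
  obtain ⟨η, hη, hηinv⟩ := above_abelian_inv φT S₀ N₁ hN₁φ hS₀₁ hcop₁ (fun x y => hab x y) θ₁
    (fun t n => (mem_inertia_iff hN (θ : N → ℂ) t.1).mp t.2 (ι n))
    (fun a n => hθS a (ι n))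
  have hη' : classInner (fun n : N => (η : T → ℂ) ⟨n, hNT n.2⟩) (θ : N → ℂ) ≠ 0 := by
    have h1 := classInner_comp_equiv ι (fun n : N => (η : T → ℂ) ⟨n, hNT n.2⟩) (θ : N → ℂ)
    rw [← h1]
    exact hη
  have hχ : IsIrrCharacter G (indFun T (η : T → ℂ)) := indFun_isIrr_of_over hN θ.2 rfl hNT η.2 hη'
  have hcl : IsClassFunction G (indFun T (η : T → ℂ)) := indFun_isClassFunction T _
  have hself : classInner (fun t : T => indFun T (η : T → ℂ) t) (η : T → ℂ) ≠ 0 := by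
    rw [← frobenius_reciprocity' T (η : T → ℂ) _ hcl, classInner_irr_self hχ]
    exact one_ne_zero
  obtain ⟨-, h2⟩ := clifford_corresp_core hN θ.2 rfl hNT η.2 hη' hχ hself
  refine ⟨⟨_, hχ⟩, ?_, ?_⟩
  · show classInner (fun n : N => indFun T (η : T → ℂ) n) (θ : N → ℂ) ≠ 0
    rw [← h2]
    exact hη'
  · intro a y
    refine indFun_aut T (φ a) (fun t ht => hTφ a t ht) (fun t ht => ?_) (fun t => hηinv a t) y
    have h3 := hTφ a⁻¹ t ht
    simpa using h3

/-- A nontrivial solvable group has a nontrivial abelian characteristic subgroup. -/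
theorem exists_char_abelian (D : Type*) [Group D] [Nontrivial D] (hD : Group.IsSolvable D) :
    ∃ A : Subgroup D, A ≠ ⊥ ∧ (∀ τ : MulAut D, ∀ a ∈ A, τ a ∈ A) ∧ ∀ x ∈ A, ∀ y ∈ A, x * y * x⁻¹ * y⁻¹ = 1 := by
  classical
  have hex : ∃ n, derivedSeries D n = ⊥ := hD.solvable
  let n := Nat.find hex
  have hn : derivedSeries D n = ⊥ := Nat.find_spec hex
  have hn0 : n ≠ 0 := by
    intro h
    rw [h, derivedSeries_zero] at hn
    exact top_ne_bot hn
  obtain ⟨k, hk⟩ := Nat.exists_eq_succ_of_ne_zero hn0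
  have hk' : derivedSeries D k ≠ ⊥ := Nat.find_min hex (by omega : k < n)
  refine ⟨derivedSeries D k, hk', ?_, ?_⟩
  · intro τ a ha
    have h1 : (derivedSeries D k).Characteristic := inferInstance
    have h2 := (Subgroup.characteristic_iff_comap_eq.mp h1) τ
    have h3 : a ∈ (derivedSeries D k).comap τ.toMonoidHom := by
      rw [h2]
      exact ha
    exact h3
  · intro x hx y hy
    have h1 : x * y * x⁻¹ * y⁻¹ ∈ derivedSeries D (k + 1) := by
      rw [derivedSeries_succ]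
      exact Subgroup.commutator_mem_commutator hx hy
    rw [show k + 1 = n by omega, hn, Subgroup.mem_bot] at h1
    exact h1

/-- Step 2: the solvable case. -/
theorem above_solvable (φ : S →* MulAut G) (S₀ : Subgroup S) [S₀.Normal] : ∀ (m : ℕ) (N : Subgroup G) [hN : N.Normal] [Fintype N]
    (hNφ : ∀ a, ∀ n ∈ N, φ a n ∈ N), (∀ s ∈ S₀, ∃ n ∈ N, ∀ g, φ s g = n * g * n⁻¹) →
    (S₀.index).Coprime N.index → Group.IsSolvable (G ⧸ N) → ∀ θ : IrrCharacter N,
    (∀ (a : S) (n : N), (θ : N → ℂ) ⟨φ a n, hNφ a n n.2⟩ = (θ : N → ℂ) n) → N.index = m →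
    ∃ χ : IrrCharacter G, classInner (fun n : N => (χ : G → ℂ) n) (θ : N → ℂ) ≠ 0 ∧ IsInv φ (χ : G → ℂ) := by
  intro m
  induction m using Nat.strong_induction_on with
  | _ m ih =>
  intro N hN _ hNφ hS₀ hcop hsol θ hθS hm
  classical
  by_cases hab : ∀ x y : G, x * y * x⁻¹ * y⁻¹ ∈ N
  · exact above_abelian φ S₀ N hNφ hS₀ hcop hab θ hθS
  have hNtop : N ≠ ⊤ := by
    rintro rfl
    exact hab fun _ _ => trivial
  haveI : Nontrivial (G ⧸ N) := QuotientGroup.nontrivial_iff.mpr hNtop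
  obtain ⟨A, hA, hAchar, hAab⟩ := exists_char_abelian (G ⧸ N) hsol
  letI : Fintype G := Fintype.ofFinite _
  let K : Subgroup G := A.comap (QuotientGroup.mk' N)
  have hNK : N ≤ K := by
    intro n hn
    show ((n : G) : G ⧸ N) ∈ A
    rw [(QuotientGroup.eq_one_iff n).mpr hn]
    exact A.one_mem
  have hKne : N ≠ K := by
    intro h
    apply hA
    rw [eq_bot_iff]
    intro q hq
    obtain ⟨g, rfl⟩ := QuotientGroup.mk_surjective q
    have h1 : g ∈ K := hq
    rw [← h] at h1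
    exact (QuotientGroup.eq_one_iff g).mpr h1
  haveI hAn : A.Normal := ⟨fun a ha q => hAchar (MulAut.conj q) a ha⟩
  haveI hKn : K.Normal := Subgroup.Normal.comap hAn _
  have hKφ : ∀ a, ∀ k ∈ K, φ a k ∈ K := by
    intro a k hk
    exact hAchar (quotMulAut φ N hNφ a) _ hk
  letI : Fintype K := Fintype.ofFinite _
  -- apply the abelian case inside `K`
  let N₁ : Subgroup K := N.subgroupOf K
  letI : Fintype N₁ := Fintype.ofFinite _
  let ι : N₁ ≃* N := Subgroup.subgroupOfEquivOfLe hNK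
  let θ₁ : IrrCharacter N₁ := ⟨(θ : N → ℂ) ∘ ι, isIrr_comp_equiv ι θ.2⟩
  let φK : S →* MulAut K := restrictHom φ K hKφ
  have hN₁φ : ∀ a, ∀ n ∈ N₁, φK a n ∈ N₁ := fun a n hn => hNφ a _ hn
  have hS₀₁ : ∀ s ∈ S₀, ∃ n ∈ N₁, ∀ g, φK s g = n * g * n⁻¹ := by
    intro s hs
    obtain ⟨n, hn, h1⟩ := hS₀ s hs
    exact ⟨⟨n, hNK hn⟩, hn, fun g => Subtype.ext (h1 g)⟩
  have hcop₁ : (S₀.index).Coprime N₁.index :=
    Nat.Coprime.coprime_dvd_right (Subgroup.relIndex_dvd_index_of_normal N K) hcop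
  have hab₁ : ∀ x y : K, x * y * x⁻¹ * y⁻¹ ∈ N₁ := by
    intro x y
    show (x : G) * y * (x : G)⁻¹ * (y : G)⁻¹ ∈ N
    have h1 := hAab _ x.2 _ y.2
    have h2 : (((x : G) * y * (x : G)⁻¹ * (y : G)⁻¹ : G) : G ⧸ N) = 1 := h1
    exact (QuotientGroup.eq_one_iff _).mp h2
  obtain ⟨ξ, hξ, hξinv⟩ := above_abelian φK S₀ N₁ hN₁φ hS₀₁ hcop₁ hab₁ θ₁ (fun a n => hθS a (ι n))
  -- recursion
  have hrel := Subgroup.relIndex_mul_index hNK
  have hindex : K.index < m := by
    rw [← hm, ← hrel]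
    have h1 : N.relIndex K ≠ 1 := fun h => hKne (le_antisymm hNK (Subgroup.relIndex_eq_one.mp h))
    have h2 : N.relIndex K ≠ 0 := by
      intro h
      have h5 : N.index ≠ 0 := Subgroup.index_ne_zero_of_finite
      rw [← hrel, h, zero_mul] at h5
      exact h5 rfl
    have h3 : K.index ≠ 0 := Subgroup.index_ne_zero_of_finite
    have h4 : 2 ≤ N.relIndex K := by omega
    nlinarith [Nat.pos_of_ne_zero h3]
  have hdvd : K.index ∣ N.index := Dvd.intro_left _ hrel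
  have hsolK : Group.IsSolvable (G ⧸ K) :=
    solvable_of_surjective (f := QuotientGroup.map N K (MonoidHom.id G) hNK) (by
      intro q
      obtain ⟨g, rfl⟩ := QuotientGroup.mk_surjective q
      exact ⟨(g : G ⧸ N), rfl⟩)
  obtain ⟨χ, hχ, hχinv⟩ := ih K.index hindex K hKφ (fun s hs => by
      obtain ⟨n, hn, h1⟩ := hS₀ s hs
      exact ⟨n, hNK hn, h1⟩)
    (Nat.Coprime.coprime_dvd_right hdvd hcop) hsolK ξ (fun a n => hξinv a n) rfl
  refine ⟨χ, ?_, hχinv⟩
  have h1 := over_trans N₁.subtype K.subtype (IsIrrCharacter.isCharacter χ.2) ξ.2 (IsIrrCharacter.isCharacter θ₁.2) hχ hξ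
  have h2 := classInner_comp_equiv ι (fun n : N => (χ : G → ℂ) n) (θ : N → ℂ)
  rw [← h2]
  exact h1

/-- The invariant constituent of a restriction. -/
theorem below_inv (φ : S →* MulAut G) (N : Subgroup G) [hN : N.Normal] [Fintype N] (hNφ : ∀ a, ∀ n ∈ N, φ a n ∈ N)
    (hcop : (Nat.card S).Coprime N.index) (hsol : Group.IsSolvable S ∨ Group.IsSolvable (G ⧸ N)) (χ : IrrCharacter G)
    (hχ : IsInv φ (χ : G → ℂ)) :
    ∃ θ : IrrCharacter N, classInner (fun n : N => (χ : G → ℂ) n) (θ : N → ℂ) ≠ 0 ∧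
      ∀ (a : S) (n : N), (θ : N → ℂ) ⟨φ a n, hNφ a n n.2⟩ = (θ : N → ℂ) n := by
  classical
  letI : Fintype G := Fintype.ofFinite _
  let φN : S →* MulAut N := restrictHom φ N hNφ
  let c : G →* MulAut N := MulAut.conjNormal
  have hc : ∀ (g : G) (n : N), ((c g n : N) : G) = g * n * g⁻¹ := fun g n => MulAut.conjNormal_apply g n
  let P : IrrCharacter N → Prop := fun θ => classInner (fun n : N => (χ : G → ℂ) n) (θ : N → ℂ) ≠ 0
  have hresinv : ∀ (α : N ≃* N), (∀ n : N, (χ : G → ℂ) (α n) = (χ : G → ℂ) n) → ∀ θ : IrrCharacter N, P θ →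
      classInner (fun n : N => (χ : G → ℂ) n) ((θ : N → ℂ) ∘ α) ≠ 0 := by
    intro α hα θ hθ
    have h1 := classInner_comp_equiv α (fun n : N => (χ : G → ℂ) n) (θ : N → ℂ)
    have h2 : ((fun n : N => (χ : G → ℂ) n) ∘ α) = fun n : N => (χ : G → ℂ) n := funext hα
    rw [h2] at h1
    rw [h1]
    exact hθ
  have hP1 : ∀ (s : S) (θ : IrrCharacter N), P θ → P (irrPerm φN s θ) := fun s θ hθ =>
    hresinv (φN s⁻¹) (fun n => hχ s⁻¹ n) θ hθ
  have hP2 : ∀ (g : G) (θ : IrrCharacter N), P θ → P (irrPerm c g θ) := fun g θ hθ =>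
    hresinv (c g⁻¹) (fun n => by
      rw [hc]
      exact IsCharacter.isClassFunction (IsIrrCharacter.isCharacter χ.2) n g⁻¹) θ hθ
  let φΩ : S →* Equiv.Perm {θ // P θ} := subtypeHom (irrPerm φN) P hP1
  have hNtriv : ∀ n ∈ N, subtypeHom (irrPerm c) P hP2 n = 1 := by
    intro n hn
    ext θ x
    show (θ.1 : N → ℂ) (c n⁻¹ x) = (θ.1 : N → ℂ) x
    have h1 : c n⁻¹ x = (⟨n, hn⟩ : N)⁻¹ * x * ((⟨n, hn⟩ : N)⁻¹)⁻¹ := Subtype.ext (hc _ _)
    rw [h1]
    exact IsCharacter.isClassFunction (IsIrrCharacter.isCharacter θ.1.2) x _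
  let act : G ⧸ N →* Equiv.Perm {θ // P θ} := QuotientGroup.lift N (subtypeHom (irrPerm c) P hP2) hNtriv
  have hact : ∀ (g : G) (θ : {θ // P θ}) (x : N), ((act (g : G ⧸ N) θ).1 : N → ℂ) x = (θ.1 : N → ℂ) (c g⁻¹ x) := fun _ _ _ => rfl
  have hcompat : ∀ s d w, φΩ s (act d w) = act (quotMulAut φ N hNφ s d) (φΩ s w) := by
    intro s d w
    obtain ⟨g, rfl⟩ := QuotientGroup.mk_surjective d
    apply Subtype.ext
    apply Subtype.ext
    funext x
    rw [quotMulAut_mk]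
    show (w.1 : N → ℂ) (c g⁻¹ (φN s⁻¹ x)) = (w.1 : N → ℂ) (φN s⁻¹ (c (φ s g)⁻¹ x))
    refine congrArg _ (Subtype.ext ?_)
    show g⁻¹ * φ s⁻¹ x * g⁻¹⁻¹ = φ s⁻¹ ((φ s g)⁻¹ * x * ((φ s g)⁻¹)⁻¹)
    simp
  have htrans : ∀ v w, ∃ d, act d v = w := by
    intro v w
    obtain ⟨g, hg⟩ := clifford_constituent_conj hN χ.2 v.1.2 w.1.2 v.2 w.2
    refine ⟨((g⁻¹ : G) : G ⧸ N), ?_⟩
    apply Subtype.ext
    apply Subtype.ext
    funext x
    rw [hact, hg]
    show (v.1 : N → ℂ) (c (g⁻¹)⁻¹ x) = (v.1 : N → ℂ) ⟨g * x * g⁻¹, _⟩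
    refine congrArg _ (Subtype.ext ?_)
    show (g⁻¹)⁻¹ * x * ((g⁻¹)⁻¹)⁻¹ = g * x * g⁻¹
    simp
  have hres : IsCharacter N (fun n : N => (χ : G → ℂ) n) := IsCharacter.comp N.subtype (IsIrrCharacter.isCharacter χ.2)
  have hne : (fun n : N => (χ : G → ℂ) n) ≠ 0 := by
    intro h
    have h1 := congrFun h 1
    obtain ⟨m, hm, hm'⟩ := Cfsg.Agent.Lib.Degree.irr_degree_natCast χ
    simp only [Subgroup.coe_one, Pi.zero_apply] at h1
    rw [hm'] at h1
    exact hm.ne' (by exact_mod_cast h1)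
  obtain ⟨θ₀, hθ₀, hcon⟩ := exists_constituent hres hne
  haveI : Nonempty {θ // P θ} := ⟨⟨⟨θ₀, hθ₀⟩, hcon⟩⟩
  have hcop' : ((⊥ : Subgroup S).index).Coprime (Nat.card (G ⧸ N)) := by
    rw [Subgroup.index_bot]
    exact hcop
  have hsol' : Group.IsSolvable (S ⧸ (⊥ : Subgroup S)) ∨ Group.IsSolvable (G ⧸ N) := by
    rcases hsol with h | h
    · left
      exact solvable_of_surjective (f := QuotientGroup.mk' (⊥ : Subgroup S)) (QuotientGroup.mk'_surjective _)
    · exact Or.inr h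
  obtain ⟨w, hw⟩ := glauberman_exists_quot (⊥ : Subgroup S) (quotMulAut φ N hNφ) φΩ act
    (fun s hs => by
      rw [Subgroup.mem_bot] at hs
      rw [hs, map_one])
    (fun s hs => by
      rw [Subgroup.mem_bot] at hs
      rw [hs, map_one])
    hcompat htrans hcop' hsol'
  refine ⟨w.1, w.2, fun a n => ?_⟩
  have h1 := congrArg Subtype.val (hw a⁻¹)
  have h2 : ((irrPerm φN a⁻¹ w.1 : IrrCharacter N) : N → ℂ) n = (w.1 : N → ℂ) n := congrFun (congrArg Subtype.val h1) n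
  rw [irrPerm_apply] at h2
  rw [← h2]
  refine congrArg _ (Subtype.ext ?_)
  show φ a n = φ (a⁻¹)⁻¹ n
  rw [inv_inv]

end Abelian

end Cfsg.Agent.Lib.Coprime
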