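import Mathlib
import Cfsg.Agent.Lib.Coprime.CopAbove

/-!
# Weighted counting of fixed points of a `p`-group
-/

set_option autoImplicit false
set_option linter.style.haveILetI false
set_option linter.unusedSectionVars false
set_option linter.unusedSimpArgs false
set_option linter.unnecessarySimpa false

namespace Cfsg.Agent.Lib.Coprime

universe u v

section Count

variable {P : Type u} {α : Type v} [Group P] {p : ℕ} [hp : Fact p.Prime]

/-- Counting a stable subset modulo `p`. -/
theorem card_stable_modEq [Finite α] (hP : IsPGroup p P) (π : P →* Equiv.Perm α) (S : α → Prop)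
    (hS : ∀ x a, S a → S (π x a)) :
    Nat.card {a // S a} ≡ Nat.card {a // S a ∧ ∀ x, π x a = a} [MOD p] := by
  classical
  letI : MulAction P {a // S a} := MulAction.compHom _ (subtypeHom π S hS)
  have h := hP.card_modEq_card_fixedPoints {a // S a}
  have h2 : Nat.card (MulAction.fixedPoints P {a // S a}) = Nat.card {a // S a ∧ ∀ x, π x a = a} := by
    refine Nat.card_congr
      { toFun := fun a => ⟨a.1.1, a.1.2, fun x => congrArg Subtype.val (a.2 x)⟩
        invFun := fun a => ⟨⟨a.1, a.2.1⟩, fun x => Subtype.ext (a.2.2 x)⟩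
        left_inv := fun a => rfl
        right_inv := fun a => rfl }
  rw [h2] at h
  exact h

/-- **Weighted counting.** -/
theorem sum_modEq_sum_fixed [Fintype α] (hP : IsPGroup p P) (π : P →* Equiv.Perm α) (w : α → ℕ)
    (hw : ∀ x a, w (π x a) = w a) [Fintype {a // ∀ x, π x a = a}] :
    ∑ a, w a ≡ ∑ a : {a // ∀ x, π x a = a}, w a [MOD p] := by
  classical
  suffices hM : ∀ (M : ℕ) (w : α → ℕ), (∀ a, w a ≤ M) → (∀ x a, w (π x a) = w a) →
      ∑ a, w a ≡ ∑ a : {a // ∀ x, π x a = a}, w a [MOD p] by
    exact hM (∑ a, w a) w (fun a => Finset.single_le_sum (fun _ _ => Nat.zero_le _) (Finset.mem_univ a)) hw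
  intro M
  induction M with
  | zero =>
    intro w hle _
    have h0 : ∀ a, w a = 0 := fun a => Nat.le_zero.mp (hle a)
    simp only [h0, Finset.sum_const_zero]
    rfl
  | succ M ih =>
    intro w hle hw
    let w' : α → ℕ := fun a => w a - 1
    have h1 := ih w' (fun a => by have := hle a; simp only [w']; omega)
      (fun x a => by simp only [w', hw])
    let S : α → Prop := fun a => w a ≠ 0
    have hS : ∀ x a, S a → S (π x a) := fun x a h => by
      simpa only [S, hw] using h
    have h2 := card_stable_modEq hP π S hS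
    have h3 : ∑ a, w a = Nat.card {a // S a} + ∑ a, w' a := by
      rw [Nat.card_eq_fintype_card, Fintype.card_subtype, Finset.card_eq_sum_ones, Finset.sum_filter,
        ← Finset.sum_add_distrib]
      refine Finset.sum_congr rfl fun a _ => ?_
      by_cases h : w a = 0 <;> simp [S, w', h]
      omega
    have h4 : ∑ a : {a // ∀ x, π x a = a}, w a =
        Nat.card {a // S a ∧ ∀ x, π x a = a} + ∑ a : {a // ∀ x, π x a = a}, w' a := by
      have h5 : Nat.card {a // S a ∧ ∀ x, π x a = a} = Nat.card {a : {a // ∀ x, π x a = a} // S a} := by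
        refine Nat.card_congr
          { toFun := fun a => ⟨⟨a.1, a.2.2⟩, a.2.1⟩
            invFun := fun a => ⟨a.1.1, a.2, a.1.2⟩
            left_inv := fun a => rfl
            right_inv := fun a => rfl }
      rw [h5, Nat.card_eq_fintype_card, Fintype.card_subtype, Finset.card_eq_sum_ones, Finset.sum_filter,
        ← Finset.sum_add_distrib]
      refine Finset.sum_congr rfl fun a _ => ?_
      by_cases h : w a = 0 <;> simp [S, w', h]
      omega
    rw [h3, h4]
    exact Nat.ModEq.add h2 h1

/-- A uniqueness transfer: if `s` has a unique fixed point on a set permuted by the `p`-group, then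
the whole group fixes it. -/
theorem fixed_of_unique_fixed [Finite α] (hP : IsPGroup p P) (π : P →* Equiv.Perm α) (s : P) (a₁ : α)
    (huniq : ∀ a, π s a = a ↔ a = a₁) (x : P) : π x a₁ = a₁ := by
  classical
  have h1 := card_stable_modEq hP π (fun _ => True) (fun _ _ _ => trivial)
  let A : Subgroup P := Subgroup.zpowers s
  have hA : IsPGroup p A := hP.to_subgroup A
  let πA : A →* Equiv.Perm α := π.comp A.subtype
  have h2 := card_stable_modEq hA πA (fun _ => True) (fun _ _ _ => trivial)
  have h3 : Nat.card {a // True ∧ ∀ x, πA x a = a} = 1 := by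
    rw [Nat.card_eq_one_iff_unique]
    refine ⟨⟨fun a b => ?_⟩, ⟨⟨a₁, trivial, ?_⟩⟩⟩
    · have ha : a.1 = a₁ := (huniq a.1).mp (a.2.2 ⟨s, Subgroup.mem_zpowers s⟩)
      have hb : b.1 = a₁ := (huniq b.1).mp (b.2.2 ⟨s, Subgroup.mem_zpowers s⟩)
      exact Subtype.ext (ha.trans hb.symm)
    · rintro ⟨_, m, rfl⟩
      have h4 : π s a₁ = a₁ := (huniq a₁).mpr rfl
      show π (s ^ m) a₁ = a₁
      rw [map_zpow]
      exact Equiv.Perm.zpow_apply_eq_self_of_apply_eq_self h4 m
  rw [h3] at h2
  have h5 := h1.symm.trans h2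
  -- a fixed point of the whole group exists
  have h6 : 0 < Nat.card {a // True ∧ ∀ x, π x a = a} := by
    by_contra h0
    have h7 : Nat.card {a // True ∧ ∀ x, π x a = a} = 0 := by omega
    rw [h7] at h5
    have h8 : (0 : ZMod p) = 1 := by
      have := (ZMod.natCast_eq_natCast_iff _ _ p).mpr h5
      simpa using this
    exact zero_ne_one h8
  rw [Nat.card_pos_iff] at h6
  obtain ⟨⟨a, -, ha⟩⟩ := h6.1
  have h9 : a = a₁ := (huniq a).mp (ha s)
  rw [← h9]
  exact ha x

end Count

end Cfsg.Agent.Lib.Coprime
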