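import Mathlib
import Cfsg.Agent.S4456
import Cfsg.Agent.Lib.Coprime.CopDeg
import Cfsg.Agent.Lib.Char.Clifford2
import Cfsg.Agent.Lib.Char.Thompson
import Cfsg.Agent.Lib.CharExtra.Ito

/-!
# Groups with two character degrees

The structure of a finite group whose irreducible character degrees are `1` and `m`: either the
centralizer of a normal abelian Hall subgroup has index `m`, is abelian and has abelian quotient,
or the group is the direct product of a `p`-group and an abelian group.
-/

set_option autoImplicit false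
set_option linter.style.haveILetI false
set_option linter.unusedSectionVars false
set_option linter.unusedSimpArgs false
set_option linter.unnecessarySimpa false
set_option linter.unusedVariables false

open scoped ComplexConjugate Pointwise
open Cfsg Cfsg.Agent.Lib.Char

namespace Cfsg.Agent.Lib.Coprime

universe u

section Abstract

variable {U : Type*} [CommGroup U]

theorem prod_iterate_div_self (τ : U →* U) (r : ℕ) (hr : ∀ x, τ^[r] x = x) (μ : U) :
    ∏ i ∈ Finset.range r, τ^[i] (τ μ / μ) = 1 := by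
  have h : ∀ i, τ^[i] (τ μ / μ) = τ^[i + 1] μ / τ^[i] μ := by
    intro i
    rw [iterate_map_div, Function.iterate_succ_apply]
  simp_rw [h]
  rw [Finset.prod_range_div (fun i => τ^[i] μ) r]
  simp only [hr, Function.iterate_zero, id, div_self']

theorem iterate_comm_hom (τ γ : U →* U) (hτγ : ∀ x, τ (γ x) = γ (τ x)) (i : ℕ) (x : U) :
    τ^[i] (γ x) = γ (τ^[i] x) := by
  induction i with
  | zero => rfl
  | succ n ih => rw [Function.iterate_succ_apply', Function.iterate_succ_apply', ih, hτγ]

theorem fix_split (τ γ : U →* U) (hτγ : ∀ x, τ (γ x) = γ (τ x)) (r : ℕ)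
    (hκ : ∀ κ : U, κ ^ r = 1 → κ = 1) {l m : U} (hl : τ l = l)
    (hm : ∏ i ∈ Finset.range r, τ^[i] m = 1) (hg : γ (l * m) = l * m) :
    γ l = l ∧ γ m = m := by
  have h1 : γ l / l = m / γ m := by
    rw [map_mul] at hg
    rw [div_eq_div_iff_mul_eq_mul]
    rw [hg, mul_comm]
  have h2 : τ (γ l / l) = γ l / l := by
    rw [map_div, hτγ, hl]
  have h3 : ∀ i, τ^[i] (γ l / l) = γ l / l := by
    intro i
    induction i with
    | zero => rfl
    | succ n ih => rw [Function.iterate_succ_apply', ih, h2]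
  have h4 : ∏ i ∈ Finset.range r, τ^[i] (γ l / l) = 1 := by
    rw [h1]
    simp_rw [iterate_map_div, iterate_comm_hom τ γ hτγ]
    rw [Finset.prod_div_distrib, ← map_prod, hm, map_one, div_one]
  simp_rw [h3] at h4
  rw [Finset.prod_const, Finset.card_range] at h4
  have h5 := hκ _ h4
  have h6 : γ l = l := by rwa [div_eq_one] at h5
  refine ⟨h6, ?_⟩
  rw [h1, div_eq_one] at h5
  exact h5.symm

end Abstract

section Dual

variable {G : Type u} [Group G] {O : Subgroup G}

/-- Conjugation action on the dual group of a normal subgroup. -/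
noncomputable def dact (hO : O.Normal) (g : G) : (O →* ℂˣ) →* (O →* ℂˣ) where
  toFun l := l.comp (conjEquiv hO g).toMonoidHom
  map_one' := rfl
  map_mul' _ _ := rfl

theorem dact_apply (hO : O.Normal) (g : G) (l : O →* ℂˣ) (o : O) :
    dact hO g l o = l ⟨g * o * g⁻¹, hO.conj_mem o o.2 g⟩ := rfl

/-- The function of a homomorphism to the units of the complex numbers. -/
def fnOf (l : O →* ℂˣ) : O → ℂ := fun o => (l o : ℂ)

theorem fnOf_injective : Function.Injective (fnOf (O := O)) := by
  intro a b h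
  ext o
  exact congrFun h o

theorem conjFn_fnOf (hO : O.Normal) (g : G) (l : O →* ℂˣ) :
    conjFn hO g (fnOf l) = fnOf (dact hO g l) := rfl

theorem mem_inertia_fnOf (hO : O.Normal) (g : G) (l : O →* ℂˣ) :
    g ∈ inertia hO (fnOf l) ↔ dact hO g l = l := by
  rw [mem_inertia, conjFn_fnOf]
  exact fnOf_injective.eq_iff

theorem fnOf_isIrr [Finite G] (l : O →* ℂˣ) : IsIrrCharacter O (fnOf l) :=
  isIrrCharacter_of_hom l

theorem dact_mul (hO : O.Normal) (g h : G) (l : O →* ℂˣ) :
    dact hO (g * h) l = dact hO h (dact hO g l) := by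
  apply fnOf_injective
  rw [← conjFn_fnOf, conjFn_mul, conjFn_fnOf, conjFn_fnOf]

theorem dact_one (hO : O.Normal) (l : O →* ℂˣ) : dact hO 1 l = l := by
  apply fnOf_injective
  rw [← conjFn_fnOf, conjFn_one]

theorem iterate_dact (hO : O.Normal) (t : G) (n : ℕ) (l : O →* ℂˣ) :
    (dact hO t)^[n] l = dact hO (t ^ n) l := by
  induction n with
  | zero => rw [Function.iterate_zero, pow_zero, dact_one]; rfl
  | succ n ih => rw [Function.iterate_succ_apply', ih, pow_succ, dact_mul]

/-- Elements of the centralizer act trivially on the dual. -/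
theorem dact_of_mem_centralizer (hO : O.Normal) {g : G}
    (hg : g ∈ Subgroup.centralizer (O : Set G)) (l : O →* ℂˣ) : dact hO g l = l := by
  ext o
  rw [dact_apply]
  congr 2
  apply Subtype.ext
  show g * o * g⁻¹ = o
  have := (Subgroup.mem_centralizer_iff.mp hg) o o.2
  rw [← this]
  simp

/-- The dual separates points. -/
theorem exists_dual_ne_one [Finite G] (hab : ∀ a ∈ O, ∀ b ∈ O, a * b = b * a) (a : O) (ha : a ≠ 1) :
    ∃ l : O →* ℂˣ, l a ≠ 1 := by
  classical
  haveI : Fintype O := Fintype.ofFinite O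
  have h1 : ¬ IsConj a 1 := by
    intro h
    exact ha (isConj_one_right.mp h.symm)
  rw [isConj_iff_forall_irr] at h1
  push Not at h1
  obtain ⟨χ, hχ⟩ := h1
  have hcomm : ∀ x y : O, x * y = y * x := fun x y => Subtype.ext (hab x x.2 y y.2)
  have h2 : (χ : O → ℂ) 1 = 1 := charDegree_eq_one_of_comm hcomm χ.2
  obtain ⟨l, hl⟩ := exists_hom_of_character_one (IsIrrCharacter.isCharacter χ.2) h2
  refine ⟨l, fun h3 => hχ ?_⟩
  rw [hl]
  simp [h3]

/-- An element acting trivially on the dual centralizes. -/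
theorem mem_centralizer_of_dact [Finite G] (hO : O.Normal)
    (hab : ∀ a ∈ O, ∀ b ∈ O, a * b = b * a) {g : G} (hg : ∀ l : O →* ℂˣ, dact hO g l = l) :
    g ∈ Subgroup.centralizer (O : Set G) := by
  rw [Subgroup.mem_centralizer_iff]
  intro o ho
  by_contra hne
  have hne' : g * o * g⁻¹ ≠ o := by
    intro h
    apply hne
    rw [mul_inv_eq_iff_eq_mul] at h
    exact h.symm
  let o' : O := ⟨o, ho⟩
  let o'' : O := ⟨g * o * g⁻¹, hO.conj_mem o ho g⟩
  have h3 : o'' * o'⁻¹ ≠ 1 := by
    intro h
    rw [mul_inv_eq_one] at h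
    exact hne' (congrArg Subtype.val h)
  obtain ⟨l, hl⟩ := exists_dual_ne_one hab _ h3
  apply hl
  have h4 : l o'' = l o' := by
    have h5 := congrArg (fun m : O →* ℂˣ => m o') (hg l)
    simpa [dact_apply] using h5
  rw [map_mul, map_inv, h4]
  simp

/-- The main facts on the stabilizer of a linear character. -/
theorem inertia_facts [Finite G] (hO : O.Normal) (hcop : Nat.Coprime O.index (Nat.card O)) {m : ℕ}
    (hm0 : m ≠ 0) (hcd : ∀ χ : IrrCharacter G, charDegree (χ : G → ℂ) = 1 ∨ charDegree (χ : G → ℂ) = m)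
    (l : O →* ℂˣ) (hne : inertia hO (fnOf l) ≠ ⊤) :
    (inertia hO (fnOf l)).index = m ∧
      ∀ a ∈ inertia hO (fnOf l), ∀ b ∈ inertia hO (fnOf l), a * b * a⁻¹ * b⁻¹ ∈ O := by
  classical
  haveI := Fintype.ofFinite G
  haveI : Fintype O := Fintype.ofFinite O
  set T := inertia hO (fnOf l) with hT
  haveI : Fintype T := Fintype.ofFinite T
  have hcl : IsClassFunction O (fnOf l) :=
    IsCharacter.isClassFunction (IsIrrCharacter.isCharacter (fnOf_isIrr l))
  have hle : O ≤ T := le_inertia hO hcl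
  -- extension
  let K : Subgroup T := O.subgroupOf T
  haveI hKn : K.Normal := Subgroup.normal_subgroupOf
  let eK : K ≃* O := Subgroup.subgroupOfEquivOfLe hle
  let lK : K →* ℂˣ := l.comp eK.toMonoidHom
  have hK1 : K.index ∣ O.index := by
    have h1 := Subgroup.relIndex_mul_index hle
    exact ⟨T.index, h1.symm⟩
  have hK2 : Nat.card K = Nat.card O := Nat.card_congr eK.toEquiv
  have hKc : K.index.Coprime (Nat.card K) := by
    rw [hK2]
    exact Nat.Coprime.coprime_dvd_left hK1 hcop
  obtain ⟨ψ, hψ, hψe⟩ := exists_ext_of_coprime K hKc (isIrrCharacter_of_hom lK) (by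
    intro g n
    have h1 : (g : G) ∈ inertia hO (fnOf l) := g.2
    rw [mem_inertia_iff] at h1
    exact h1 (eK n))
  have hψ1 : ψ 1 = 1 := by
    have := hψe 1
    simpa [lK] using this
  have hψc := IsIrrCharacter.isCharacter hψ
  have hψn : ∀ t, ‖ψ t‖ = 1 := norm_linear_eq_one hψc hψ1
  have hψO : ∀ n : O, ψ ⟨n, hle n.2⟩ = fnOf l n := by
    intro n
    have := hψe (eK.symm n)
    have h2 : ((eK.symm n : K) : T) = ⟨n, hle n.2⟩ := by
      apply Subtype.ext
      rfl
    rw [h2] at this
    rw [this]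
    simp [lK, fnOf]
  -- product with a character trivial on O
  have hmain : ∀ β : T → ℂ, IsIrrCharacter T β → (∀ n : O, β ⟨n, hle n.2⟩ = β 1) →
      T.index * charDegree β = 1 ∨ T.index * charDegree β = m := by
    intro β hβ hβO
    have hβc := IsIrrCharacter.isCharacter hβ
    have hprodc : IsCharacter T (ψ * β) := IsCharacter.mul hψc hβc
    have hnorm : classInner (ψ * β) (ψ * β) = 1 := by
      rw [← classInner_irr_self hβ, classInner_def, classInner_def]
      congr 1
      refine Finset.sum_congr rfl fun t _ => ?_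
      have h1 : ψ t * conj (ψ t) = 1 := by
        rw [Complex.mul_conj, Complex.normSq_eq_norm_sq, hψn t]
        simp
      simp only [Pi.mul_apply, map_mul]
      calc ψ t * β t * (conj (ψ t) * conj (β t)) = (ψ t * conj (ψ t)) * (β t * conj (β t)) := by ring
        _ = β t * conj (β t) := by rw [h1, one_mul]
    have hprod : IsIrrCharacter T (ψ * β) := isIrr_of_character_norm_one hprodc hnorm
    have hcon : classInner (fun n : O => (ψ * β) ⟨n, hle n.2⟩) (fnOf l) ≠ 0 := by
      have h1 : (fun n : O => (ψ * β) ⟨n, hle n.2⟩) = β 1 • fnOf l := by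
        funext n
        simp only [Pi.mul_apply, Pi.smul_apply, smul_eq_mul]
        rw [hψO, hβO]
        ring
      rw [h1, classInner_smul_left, classInner_irr_self (fnOf_isIrr l), mul_one]
      exact map_one_ne_zero_of_irr hβ
    have hind := indFun_isIrr_of_over hO (fnOf_isIrr l) hT hle hprod hcon
    have hd : charDegree (indFun T (ψ * β)) = T.index * charDegree β := by
      apply charDegree_natCast
      rw [indFun_one]
      simp only [Pi.mul_apply]
      rw [hψ1, one_mul, map_one_eq_charDegree hβc]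
      push_cast
      rfl
    rw [← hd]
    exact hcd ⟨_, hind⟩
  -- the index
  have hidx : T.index = m := by
    have h1 := hmain (fun _ => 1) isIrrCharacter_one (fun _ => rfl)
    have h2 : charDegree (fun _ : T => (1 : ℂ)) = 1 := charDegree_natCast (n := 1) (by simp)
    rw [h2, mul_one] at h1
    rcases h1 with h1 | h1
    · exact absurd (Subgroup.index_eq_one.mp h1) hne
    · exact h1
  refine ⟨hidx, ?_⟩
  -- the quotient is abelian
  have hdeg : ∀ β : T → ℂ, IsIrrCharacter T β → (∀ n : O, β ⟨n, hle n.2⟩ = β 1) → β 1 = 1 := by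
    intro β hβ hβO
    have hβc := IsIrrCharacter.isCharacter hβ
    have h0 : charDegree β ≠ 0 := charDegree_pos_of_irr hβ |>.ne'
    have h1 := hmain β hβ hβO
    rw [hidx] at h1
    have h2 : charDegree β = 1 := by
      rcases h1 with h1 | h1
      · exact Nat.eq_one_of_mul_eq_one_left h1
      · exact Nat.eq_of_mul_eq_mul_left (Nat.pos_of_ne_zero hm0) (by rw [h1, mul_one])
    rw [map_one_eq_charDegree hβc, h2]
    simp
  have hcomm : ∀ x y : T ⧸ K, x * y = y * x := by
    rw [comm_iff_forall_irr_degree_one]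
    intro χ
    have h1 := isIrr_comp_surjective (QuotientGroup.mk' K) (QuotientGroup.mk'_surjective K) χ.2
    have h2 := hdeg _ h1 (by
      intro n
      simp only [Function.comp]
      congr 1
      have h3 : (⟨n, hle n.2⟩ : T) ∈ K := by
        rw [Subgroup.mem_subgroupOf]
        exact n.2
      rw [show QuotientGroup.mk' K (⟨n, hle n.2⟩ : T) = 1 from (QuotientGroup.eq_one_iff _).mpr h3,
        map_one])
    simpa using h2
  intro a ha b hb
  have h1 := hcomm (QuotientGroup.mk' K ⟨a, ha⟩) (QuotientGroup.mk' K ⟨b, hb⟩)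
  have h2 : QuotientGroup.mk' K (⟨a, ha⟩ * ⟨b, hb⟩ * (⟨a, ha⟩ : T)⁻¹ * (⟨b, hb⟩ : T)⁻¹) = 1 := by
    simp only [map_mul, map_inv]
    rw [h1]
    group
  have h3 := (QuotientGroup.eq_one_iff _).mp h2
  exact h3


/-- The degree is at most the index of an abelian subgroup. -/
theorem charDegree_le_index_of_abelian {G : Type*} [Group G] [Finite G] {χ : G → ℂ}
    (hχ : IsIrrCharacter G χ) (A : Subgroup G) (hA : ∀ a ∈ A, ∀ b ∈ A, a * b = b * a) :
    charDegree χ ≤ A.index := by
  obtain ⟨n, ρ, hρ, rfl⟩ := hχ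
  rw [charDegree_natCast (Representation.char_one ρ)]
  exact finrank_le_index_of_abelian ρ hρ A hA

/-- The degree divides the index of an abelian normal subgroup. -/
theorem charDegree_dvd_index_of_abelian {G : Type*} [Group G] [Finite G] {χ : G → ℂ}
    (hχ : IsIrrCharacter G χ) (A : Subgroup G) [hn : A.Normal]
    (hA : ∀ a ∈ A, ∀ b ∈ A, a * b = b * a) : charDegree χ ∣ A.index := by
  obtain ⟨n, ρ, hρ, rfl⟩ := hχ
  rw [charDegree_natCast (Representation.char_one ρ)]
  exact finrank_dvd_index_of_abelian_normal ρ hρ A hn hA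

/-- The structure theorem in the non-nilpotent case. -/
theorem two_deg_core [Finite G] (hO : O.Normal) (hab : ∀ a ∈ O, ∀ b ∈ O, a * b = b * a)
    (hcop : Nat.Coprime O.index (Nat.card O)) (hnil : Group.IsNilpotent (G ⧸ O)) {m : ℕ}
    (hm0 : m ≠ 0) (hcd : ∀ χ : IrrCharacter G, charDegree (χ : G → ℂ) = 1 ∨ charDegree (χ : G → ℂ) = m)
    (hne : Subgroup.centralizer (O : Set G) ≠ ⊤) :
    (Subgroup.centralizer (O : Set G)).index = m ∧
      (∀ a ∈ Subgroup.centralizer (O : Set G), ∀ b ∈ Subgroup.centralizer (O : Set G), a * b = b * a) ∧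
      ∀ g h : G, g * h * g⁻¹ * h⁻¹ ∈ Subgroup.centralizer (O : Set G) := by
  classical
  haveI := hO
  set C := Subgroup.centralizer (O : Set G) with hC
  haveI hCn : C.Normal := Subgroup.normal_centralizer
  have hOC : O ≤ C := by
    intro a ha
    rw [hC, Subgroup.mem_centralizer_iff]
    intro b hb
    exact hab b hb a ha
  have hCT : ∀ l : O →* ℂˣ, C ≤ inertia hO (fnOf l) := by
    intro l g hg
    rw [mem_inertia_fnOf]
    exact dact_of_mem_centralizer hO hg l
  have hfact := fun (l : O →* ℂˣ) (h : inertia hO (fnOf l) ≠ ⊤) => inertia_facts hO hcop hm0 hcd l h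
  -- a non-invariant character
  obtain ⟨l₀, hl₀⟩ : ∃ l : O →* ℂˣ, inertia hO (fnOf l) ≠ ⊤ := by
    by_contra hall
    push Not at hall
    apply hne
    rw [eq_top_iff]
    intro g _
    apply mem_centralizer_of_dact hO hab
    intro l
    rw [← mem_inertia_fnOf, hall l]
    exact Subgroup.mem_top g
  -- the quotient is abelian
  let π : G →* G ⧸ C := QuotientGroup.mk' C
  have hπ : Function.Surjective π := QuotientGroup.mk'_surjective C
  have hπker : π.ker = C := QuotientGroup.ker_mk' C
  have hQnil : Group.IsNilpotent (G ⧸ C) := by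
    let f : G ⧸ O →* G ⧸ C := QuotientGroup.map O C (MonoidHom.id G) (by
      intro a ha
      exact hOC ha)
    refine nilpotent_of_surjective f ?_
    intro q
    obtain ⟨g, rfl⟩ := hπ q
    exact ⟨QuotientGroup.mk g, rfl⟩
  have hQc : ∀ a b : G ⧸ C, a * b = b * a := by
    by_contra hQ
    have hQ' := hQ
    rw [comm_iff_forall_irr_degree_one] at hQ'
    push Not at hQ'
    obtain ⟨χ, hχ⟩ := hQ'
    have hdeg : charDegree (χ : G ⧸ C → ℂ) = m := by
      have h1 := hcd ⟨_, isIrr_comp_surjective π hπ χ.2⟩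
      simp only [charDegree_comp_monoidHom] at h1
      rcases h1 with h1 | h1
      · exfalso
        apply hχ
        rw [map_one_eq_charDegree (IsIrrCharacter.isCharacter χ.2), h1]
        simp
      · exact h1
    have hbd : ∀ A : Subgroup (G ⧸ C), (∀ a ∈ A, ∀ b ∈ A, a * b = b * a) → m ≤ A.index := by
      intro A hA
      rw [← hdeg]
      exact charDegree_le_index_of_abelian χ.2 A hA
    have hZ : ∀ l : O →* ℂˣ, inertia hO (fnOf l) ≠ ⊤ →
        Subgroup.center (G ⧸ C) ≤ (inertia hO (fnOf l)).map π := by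
      intro l hl
      obtain ⟨hi, hc⟩ := hfact l hl
      set T := inertia hO (fnOf l) with hT
      have hTc : ∀ a ∈ T.map π, ∀ b ∈ T.map π, a * b = b * a := by
        rintro _ ⟨a, ha, rfl⟩ _ ⟨b, hb, rfl⟩
        have h1 : π (a * b * a⁻¹ * b⁻¹) = 1 := by
          rw [← MonoidHom.mem_ker, hπker]
          exact hOC (hc a ha b hb)
        simp only [map_mul, map_inv] at h1
        rw [mul_inv_eq_one, mul_inv_eq_iff_eq_mul] at h1
        exact h1
      have hAc : ∀ a ∈ T.map π ⊔ Subgroup.center (G ⧸ C), ∀ b ∈ T.map π ⊔ Subgroup.center (G ⧸ C),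
          a * b = b * a := by
        intro a ha b hb
        obtain ⟨a₁, ha₁, a₂, ha₂, rfl⟩ := Subgroup.mem_sup_of_normal_right.mp ha
        obtain ⟨b₁, hb₁, b₂, hb₂, rfl⟩ := Subgroup.mem_sup_of_normal_right.mp hb
        have h1 := hTc a₁ ha₁ b₁ hb₁
        have h2 := Subgroup.mem_center_iff.mp ha₂
        have h3 := Subgroup.mem_center_iff.mp hb₂
        calc a₁ * a₂ * (b₁ * b₂) = a₁ * (a₂ * b₁) * b₂ := by group
          _ = a₁ * (b₁ * a₂) * b₂ := by rw [h2]
          _ = b₁ * a₁ * (a₂ * b₂) := by rw [← mul_assoc a₁, h1]; group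
          _ = b₁ * a₁ * (b₂ * a₂) := by rw [h3]
          _ = b₁ * (a₁ * b₂) * a₂ := by group
          _ = b₁ * (b₂ * a₁) * a₂ := by rw [h3]
          _ = b₁ * b₂ * (a₁ * a₂) := by group
      have h1 := hbd _ hAc
      have h2 : (T.map π).index = m := by
        rw [Subgroup.index_map_eq _ hπ, hi]
        rw [hπker]
        exact hCT l
      have hle : T.map π ≤ T.map π ⊔ Subgroup.center (G ⧸ C) := le_sup_left
      have h3 := Subgroup.relIndex_mul_index hle
      rw [h2] at h3
      have h4 : (T.map π ⊔ Subgroup.center (G ⧸ C)).index = m := by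
        have h5 : (T.map π ⊔ Subgroup.center (G ⧸ C)).index ∣ m := ⟨_, by rw [← h3, mul_comm]⟩
        exact le_antisymm (Nat.le_of_dvd (Nat.pos_of_ne_zero hm0) h5) h1
      rw [h4] at h3
      have h5 : (T.map π).relIndex (T.map π ⊔ Subgroup.center (G ⧸ C)) = 1 :=
        Nat.eq_of_mul_eq_mul_right (Nat.pos_of_ne_zero hm0) (by rw [h3, one_mul])
      rw [Subgroup.relIndex_eq_one] at h5
      exact le_sup_right.trans h5
    have hZ1 : Subgroup.center (G ⧸ C) = ⊥ := by
      rw [eq_bot_iff]
      intro q hq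
      obtain ⟨z, rfl⟩ := hπ q
      rw [Subgroup.mem_bot, ← MonoidHom.mem_ker, hπker]
      apply mem_centralizer_of_dact hO hab
      intro l
      rw [← mem_inertia_fnOf]
      by_cases hl : inertia hO (fnOf l) = ⊤
      · rw [hl]
        exact Subgroup.mem_top z
      · obtain ⟨t, ht, h1⟩ := hZ l hl hq
        have h2 : t⁻¹ * z ∈ C := by
          rw [← hπker, MonoidHom.mem_ker, map_mul, map_inv, h1, inv_mul_cancel]
        have h3 := (inertia hO (fnOf l)).mul_mem ht (hCT l h2)
        simpa using h3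
    have hnt : Nontrivial (G ⧸ C) := by
      by_contra hs
      rw [not_nontrivial_iff_subsingleton] at hs
      exact hQ fun a b => Subsingleton.elim _ _
    exact Group.IsNilpotent.center_ne_bot (G ⧸ C) hZ1
  have hGC : ∀ g h : G, g * h * g⁻¹ * h⁻¹ ∈ C := by
    intro g h
    rw [← hπker, MonoidHom.mem_ker]
    simp only [map_mul, map_inv]
    rw [hQc (π g) (π h)]
    group
  -- the action is commutative
  have hdcomm : ∀ (g h : G) (μ : O →* ℂˣ), dact hO g (dact hO h μ) = dact hO h (dact hO g μ) := by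
    intro g h μ
    rw [← dact_mul, ← dact_mul]
    have h1 : h * g = (h * g * h⁻¹ * g⁻¹) * (g * h) := by group
    rw [h1, dact_mul]
    congr 1
    exact dact_of_mem_centralizer hO (hGC h g) μ
  -- coprime powers
  have hκ : ∀ κ : O →* ℂˣ, κ ^ O.index = 1 → κ = 1 := by
    intro κ h
    ext o
    have h1 : (κ o) ^ O.index = 1 := by
      have := congrArg (fun m : O →* ℂˣ => m o) h
      simpa using this
    have h2 : (κ o) ^ Nat.card O = 1 := by
      rw [← map_pow, pow_card_eq_one', map_one]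
    have h3 : orderOf (κ o) ∣ Nat.gcd O.index (Nat.card O) :=
      Nat.dvd_gcd (orderOf_dvd_of_pow_eq_one h1) (orderOf_dvd_of_pow_eq_one h2)
    rw [hcop, Nat.dvd_one, orderOf_eq_one_iff] at h3
    rw [h3]
    rfl
  have hr : ∀ (t : G) (μ : O →* ℂˣ), (dact hO t)^[O.index] μ = μ := by
    intro t μ
    rw [iterate_dact]
    exact dact_of_mem_centralizer hO (hOC (Subgroup.pow_index_mem O t)) μ
  -- the stabilizers are equal to the centralizer
  have hTC : inertia hO (fnOf l₀) ≤ C := by
    intro t ht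
    apply mem_centralizer_of_dact hO hab
    intro μ
    by_contra hμ
    rw [mem_inertia_fnOf] at ht
    set τ := dact hO t with hτ
    have hN : ∏ i ∈ Finset.range O.index, τ^[i] (τ μ / μ) = 1 :=
      prod_iterate_div_self τ _ (hr t) μ
    have hfix : τ (τ μ / μ) ≠ τ μ / μ := by
      intro hfx
      have h1 : ∀ i, τ^[i] (τ μ / μ) = τ μ / μ := by
        intro i
        induction i with
        | zero => rfl
        | succ n ih => rw [Function.iterate_succ_apply', ih, hfx]
      simp_rw [h1] at hN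
      rw [Finset.prod_const, Finset.card_range] at hN
      have h2 := hκ _ hN
      exact hμ (div_eq_one.mp h2)
    set μ₂ := τ μ / μ with hμ₂
    have hsplit : ∀ g : G, dact hO g (l₀ * μ₂) = l₀ * μ₂ →
        dact hO g l₀ = l₀ ∧ dact hO g μ₂ = μ₂ := by
      intro g hg
      exact fix_split τ (dact hO g) (fun x => hdcomm t g x) _ hκ ht hN hg
    have hle : inertia hO (fnOf (l₀ * μ₂)) ≤ inertia hO (fnOf l₀) := by
      intro g hg
      rw [mem_inertia_fnOf] at hg ⊢
      exact (hsplit g hg).1
    have hne' : inertia hO (fnOf (l₀ * μ₂)) ≠ ⊤ := by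
      intro h
      rw [h, top_le_iff] at hle
      exact hl₀ hle
    have h1 := (hfact _ hne').1
    have h2 := (hfact _ hl₀).1
    have h3 := Subgroup.relIndex_mul_index hle
    rw [h1, h2] at h3
    have h4 : (inertia hO (fnOf (l₀ * μ₂))).relIndex (inertia hO (fnOf l₀)) = 1 :=
      Nat.eq_of_mul_eq_mul_right (Nat.pos_of_ne_zero hm0) (by rw [h3, one_mul])
    rw [Subgroup.relIndex_eq_one] at h4
    have h5 : t ∈ inertia hO (fnOf (l₀ * μ₂)) := h4 ((mem_inertia_fnOf hO t l₀).mpr ht)
    rw [mem_inertia_fnOf] at h5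
    exact hfix (hsplit t h5).2
  have hTeq : inertia hO (fnOf l₀) = C := le_antisymm hTC (hCT l₀)
  obtain ⟨hi, hc⟩ := hfact l₀ hl₀
  rw [hTeq] at hi hc
  refine ⟨hi, ?_, hGC⟩
  -- the centralizer is abelian
  intro a ha b hb
  have hx := hc a ha b hb
  set x := a * b * a⁻¹ * b⁻¹ with hxdef
  have hxc : ∀ c ∈ C, c * x = x * c := by
    intro c hc'
    exact (Subgroup.mem_centralizer_iff.mp hc') x hx |>.symm
  have hconj : ∀ k : ℕ, a ^ k * b * (a ^ k)⁻¹ = x ^ k * b := by
    intro k
    induction k with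
    | zero => simp
    | succ k ih =>
      have h1 : a * b * a⁻¹ = x * b := by rw [hxdef]; group
      have h2 : a * x = x * a := hxc a ha
      have h3 : a * x ^ k = x ^ k * a := (Commute.pow_right (show Commute a x from h2) k)
      calc a ^ (k + 1) * b * (a ^ (k + 1))⁻¹ = a * (a ^ k * b * (a ^ k)⁻¹) * a⁻¹ := by
            rw [pow_succ' a k]; group
        _ = a * (x ^ k * b) * a⁻¹ := by rw [ih]
        _ = (a * x ^ k) * b * a⁻¹ := by group
        _ = x ^ k * (a * b * a⁻¹) := by rw [h3]; group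
        _ = x ^ k * (x * b) := by rw [h1]
        _ = x ^ (k + 1) * b := by rw [pow_succ]; group
  have h6 : a ^ O.index ∈ O := Subgroup.pow_index_mem O a
  have h7 : a ^ O.index * b * (a ^ O.index)⁻¹ = b := by
    have h8 := (Subgroup.mem_centralizer_iff.mp hb) _ h6
    rw [h8]
    group
  rw [hconj] at h7
  have h8 : x ^ O.index = 1 := by simpa using h7
  have h9 : x ^ Nat.card O = 1 := by
    have := pow_card_eq_one' (x := (⟨x, hx⟩ : O))
    exact congrArg Subtype.val this
  have h10 : orderOf x ∣ Nat.gcd O.index (Nat.card O) :=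
    Nat.dvd_gcd (orderOf_dvd_of_pow_eq_one h8) (orderOf_dvd_of_pow_eq_one h9)
  rw [hcop, Nat.dvd_one, orderOf_eq_one_iff] at h10
  rw [hxdef, mul_inv_eq_one, mul_inv_eq_iff_eq_mul] at h10
  exact h10

end Dual

section Main

variable {G : Type u} [Group G] [Finite G]

/-- The normal abelian Hall subgroup with nilpotent quotient. -/
theorem exists_hall_abelian {m : ℕ}
    (hcd : ∀ χ : IrrCharacter G, charDegree (χ : G → ℂ) = 1 ∨ charDegree (χ : G → ℂ) = m) :
    ∃ O : Subgroup G, ∃ _ : O.Normal, (∀ a ∈ O, ∀ b ∈ O, a * b = b * a) ∧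
      Nat.Coprime O.index (Nat.card O) ∧ Group.IsNilpotent (G ⧸ O) := by
  classical
  have hex : ∀ p : m.primeFactors, ∃ N : Subgroup G, N.Normal ∧ (Nat.card N).Coprime (p : ℕ) ∧
      ∃ k : ℕ, N.index = (p : ℕ) ^ k := by
    intro p
    have hp : (p : ℕ).Prime := Nat.prime_of_mem_primeFactors p.2
    refine Cfsg.Agent.S4456.result (p : ℕ) hp ?_
    intro χ hχ
    rcases hcd χ with h | h
    · exact absurd h hχ
    · rw [h]
      exact Nat.dvd_of_mem_primeFactors p.2
  choose M hMn hMc hMi using hex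
  haveI hMn' : ∀ p, (M p).Normal := hMn
  let f : G →* ∀ p : m.primeFactors, G ⧸ M p := Pi.monoidHom fun p => QuotientGroup.mk' (M p)
  have hker : ∀ p, f.ker ≤ M p := by
    intro p x hx
    have h1 := congrFun ((MonoidHom.mem_ker).mp hx) p
    exact (QuotientGroup.eq_one_iff x).mp h1
  have hcard : ∀ p : m.primeFactors, ¬ (p : ℕ) ∣ Nat.card f.ker := by
    intro p h
    have hp : (p : ℕ).Prime := Nat.prime_of_mem_primeFactors p.2
    have h1 := h.trans (Subgroup.card_dvd_of_le (hker p))
    have h2 := Nat.Coprime.eq_one_of_dvd (hMc p).symm h1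
    exact hp.one_lt.ne' h2
  have hidx : f.ker.index = Nat.card f.range := Subgroup.index_ker f
  refine ⟨f.ker, MonoidHom.normal_ker f, ?_, ?_, ?_⟩
  · -- abelian
    haveI hkn : f.ker.Normal := MonoidHom.normal_ker f
    haveI := Fintype.ofFinite G
    haveI : Fintype f.ker := Fintype.ofFinite _
    have hc : ∀ a b : f.ker, a * b = b * a := by
      rw [comm_iff_forall_irr_degree_one]
      intro θ
      obtain ⟨χ, hχ, hd⟩ := exists_degree_dvd_of_normal f.ker hkn θ.2
      have hd2 : charDegree (θ : f.ker → ℂ) ∣ Nat.card f.ker := charDegree_dvd_card θ.2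
      have h1 : charDegree (θ : f.ker → ℂ) = 1 := by
        by_contra hne
        obtain ⟨q, hq, hqd⟩ := Nat.exists_prime_and_dvd hne
        have hqm : q ∣ m := by
          rcases hcd ⟨χ, hχ⟩ with h | h
          · exfalso
            have h2 : charDegree (θ : f.ker → ℂ) ∣ 1 := by
              rw [← h]
              exact hd
            exact hne (Nat.dvd_one.mp h2)
          · rw [← h]
            exact hqd.trans hd
        have hm0 : m ≠ 0 := by
          rintro rfl
          rcases hcd ⟨χ, hχ⟩ with h | h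
          · exfalso
            have h2 : charDegree (θ : f.ker → ℂ) ∣ 1 := by
              rw [← h]
              exact hd
            exact hne (Nat.dvd_one.mp h2)
          · have := charDegree_pos_of_irr hχ
            simp only at h
            omega
        exact hcard ⟨q, Nat.mem_primeFactors.mpr ⟨hq, hqm, hm0⟩⟩ (hqd.trans hd2)
      rw [map_one_eq_charDegree (IsIrrCharacter.isCharacter θ.2), h1]
      simp
    intro a ha b hb
    exact congrArg Subtype.val (hc ⟨a, ha⟩ ⟨b, hb⟩)
  · -- coprime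
    apply Nat.Coprime.symm
    apply Nat.coprime_of_dvd
    intro q hq hq1 hq2
    rw [hidx] at hq2
    have h1 : Nat.card f.range ∣ Nat.card (∀ p : m.primeFactors, G ⧸ M p) :=
      Subgroup.card_subgroup_dvd_card _
    rw [Nat.card_pi] at h1
    obtain ⟨p, -, hp⟩ := (Prime.dvd_finset_prod_iff hq.prime _).mp (hq2.trans h1)
    rw [show Nat.card (G ⧸ M p) = (M p).index from rfl] at hp
    obtain ⟨k, hk⟩ := hMi p
    rw [hk] at hp
    have hp' : (p : ℕ).Prime := Nat.prime_of_mem_primeFactors p.2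
    have h2 : q = p := (Nat.prime_dvd_prime_iff_eq hq hp').mp (hq.dvd_of_dvd_pow hp)
    rw [h2] at hq1
    exact hcard p hq1
  · -- nilpotent
    have hnil : ∀ p, Group.IsNilpotent (G ⧸ M p) := by
      intro p
      haveI : Fact (p : ℕ).Prime := ⟨Nat.prime_of_mem_primeFactors p.2⟩
      obtain ⟨k, hk⟩ := hMi p
      exact IsPGroup.isNilpotent (IsPGroup.of_card (n := k) hk)
    exact (Group.isNilpotent_congr (QuotientGroup.quotientKerEquivRange f)).mpr inferInstance

/-- The nilpotent case. -/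
theorem two_deg_nilp [hnil : Group.IsNilpotent G] {m : ℕ}
    (hcd : ∀ χ : IrrCharacter G, charDegree (χ : G → ℂ) = 1 ∨ charDegree (χ : G → ℂ) = m)
    (hm : ∃ χ : IrrCharacter G, charDegree (χ : G → ℂ) = m) (hm1 : m ≠ 1) :
    ∃ p e : ℕ, p.Prime ∧ m = p ^ e ∧ ∃ P A : Subgroup G, P.Normal ∧ A.Normal ∧ IsPGroup p P ∧
      (∀ a ∈ A, ∀ b ∈ A, a * b = b * a) ∧ P ⊓ A = ⊥ ∧ P ⊔ A = ⊤ := by
  classical
  haveI := Fintype.ofFinite G
  obtain ⟨χ₀, hχ₀⟩ := hm
  set p := m.minFac with hpdef
  have hp : p.Prime := Nat.minFac_prime hm1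
  haveI : Fact p.Prime := ⟨hp⟩
  have hpm : p ∣ m := Nat.minFac_dvd m
  obtain ⟨M, hMn, hMc, k, hk⟩ := Cfsg.Agent.S4456.result p hp (by
    intro χ hχ
    rcases hcd χ with h | h
    · exact absurd h hχ
    · rw [h]
      exact hpm)
  haveI := hMn
  haveI : Fintype M := Fintype.ofFinite M
  let P : Sylow p G := default
  have hPn : (P : Subgroup G).Normal := (Group.isNilpotent_of_finite_tfae.out 0 3 rfl rfl).mp hnil p inferInstance P
  haveI := hPn
  have hPp : IsPGroup p (P : Subgroup G) := P.isPGroup'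
  have hPi : ¬ p ∣ (P : Subgroup G).index := P.not_dvd_index
  obtain ⟨a, hPa⟩ := IsPGroup.iff_card.mp hPp
  have hdisj : (P : Subgroup G) ⊓ M = ⊥ := by
    apply Subgroup.inf_eq_bot_of_coprime
    rw [hPa]
    exact Nat.Coprime.pow_left _ hMc.symm
  have hsup : (P : Subgroup G) ⊔ M = ⊤ := by
    rw [← Subgroup.index_eq_one]
    have h1 : ((P : Subgroup G) ⊔ M).index ∣ M.index := Subgroup.index_dvd_of_le le_sup_right
    have h2 : ((P : Subgroup G) ⊔ M).index ∣ (P : Subgroup G).index :=
      Subgroup.index_dvd_of_le le_sup_left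
    rw [hk] at h1
    obtain ⟨j, -, hj⟩ := (Nat.dvd_prime_pow hp).mp h1
    rw [hj]
    rcases j with _ | j
    · simp
    · exfalso
      rw [hj] at h2
      exact hPi ((dvd_pow_self p (Nat.succ_ne_zero j)).trans h2)
  -- `P` is not abelian
  have hPnc : ¬ ∀ x y : (P : Subgroup G), x * y = y * x := by
    intro hc
    have h1 : charDegree (χ₀ : G → ℂ) ∣ (P : Subgroup G).index :=
      charDegree_dvd_index_of_abelian χ₀.2 (P : Subgroup G) (by
        intro x hx y hy
        exact congrArg Subtype.val (hc ⟨x, hx⟩ ⟨y, hy⟩))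
    rw [hχ₀] at h1
    exact hPi (hpm.trans h1)
  -- the homomorphism onto `P`
  let f₀ : (P : Subgroup G) →* G ⧸ M := (QuotientGroup.mk' M).comp (P : Subgroup G).subtype
  have hf₀i : Function.Injective f₀ := by
    rw [injective_iff_map_eq_one]
    intro x hx
    have h1 : (x : G) ∈ M := (QuotientGroup.eq_one_iff _).mp hx
    have h2 : (x : G) ∈ (P : Subgroup G) ⊓ M := ⟨x.2, h1⟩
    rw [hdisj, Subgroup.mem_bot] at h2
    exact Subtype.ext h2
  have hf₀s : Function.Surjective f₀ := by
    intro q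
    obtain ⟨g, rfl⟩ := QuotientGroup.mk_surjective q
    have h1 : g ∈ (P : Subgroup G) ⊔ M := by
      rw [hsup]
      exact Subgroup.mem_top g
    obtain ⟨y, hy, z, hz, rfl⟩ := Subgroup.mem_sup_of_normal_right.mp h1
    refine ⟨⟨y, hy⟩, ?_⟩
    have h2 : ((y * z : G) : G ⧸ M) = (y : G ⧸ M) := by
      rw [QuotientGroup.mk_mul, (QuotientGroup.eq_one_iff z).mpr hz, mul_one]
    rw [h2]
    rfl
  let e : (P : Subgroup G) ≃* G ⧸ M := MulEquiv.ofBijective f₀ ⟨hf₀i, hf₀s⟩
  let φ : G →* (P : Subgroup G) := e.symm.toMonoidHom.comp (QuotientGroup.mk' M)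
  have hφ : Function.Surjective φ :=
    e.symm.surjective.comp (QuotientGroup.mk'_surjective M)
  -- the degree
  have hmp : ∃ e' : ℕ, m = p ^ e' := by
    have hnc := hPnc
    rw [comm_iff_forall_irr_degree_one] at hnc
    push Not at hnc
    obtain ⟨β, hβ⟩ := hnc
    have h1 := hcd ⟨_, isIrr_comp_surjective φ hφ β.2⟩
    simp only [charDegree_comp_monoidHom] at h1
    rcases h1 with h1 | h1
    · exfalso
      apply hβ
      rw [map_one_eq_charDegree (IsIrrCharacter.isCharacter β.2), h1]
      simp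
    · have h2 : charDegree (β : ↥(P : Subgroup G) → ℂ) ∣ p ^ a := by
        rw [← hPa]
        exact charDegree_dvd_card β.2
      rw [h1] at h2
      obtain ⟨j, -, hj⟩ := (Nat.dvd_prime_pow hp).mp h2
      exact ⟨j, hj⟩
  obtain ⟨e', he'⟩ := hmp
  refine ⟨p, e', hp, he', P, M, hPn, hMn, hPp, ?_, hdisj, hsup⟩
  -- `M` is abelian
  have hc : ∀ x y : M, x * y = y * x := by
    rw [comm_iff_forall_irr_degree_one]
    intro θ
    obtain ⟨χ, hχ, hd⟩ := exists_degree_dvd_of_normal M hMn θ.2
    have hd2 : charDegree (θ : M → ℂ) ∣ Nat.card M := charDegree_dvd_card θ.2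
    have h1 : charDegree (θ : M → ℂ) ∣ p ^ e' := by
      rcases hcd ⟨χ, hχ⟩ with h | h
      · have h3 : charDegree (θ : M → ℂ) ∣ 1 := by
          rw [← h]
          exact hd
        exact h3.trans (one_dvd _)
      · rw [← he', ← h]
        exact hd
    have h2 : Nat.Coprime (charDegree (θ : M → ℂ)) (p ^ e') :=
      Nat.Coprime.pow_right _ (Nat.Coprime.coprime_dvd_left hd2 hMc)
    have h3 : charDegree (θ : M → ℂ) = 1 := Nat.Coprime.eq_one_of_dvd h2 h1
    rw [map_one_eq_charDegree (IsIrrCharacter.isCharacter θ.2), h3]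
    simp
  intro x hx y hy
  exact congrArg Subtype.val (hc ⟨x, hx⟩ ⟨y, hy⟩)

/-- Structure of groups with two character degrees. -/
theorem two_deg_structure {m : ℕ}
    (hcd : ∀ χ : IrrCharacter G, charDegree (χ : G → ℂ) = 1 ∨ charDegree (χ : G → ℂ) = m)
    (hm : ∃ χ : IrrCharacter G, charDegree (χ : G → ℂ) = m) (hm1 : m ≠ 1) :
    (∃ C : Subgroup G, C.Normal ∧ C.index = m ∧ (∀ a ∈ C, ∀ b ∈ C, a * b = b * a) ∧
        ∀ g h : G, g * h * g⁻¹ * h⁻¹ ∈ C) ∨
      ∃ p e : ℕ, p.Prime ∧ m = p ^ e ∧ ∃ P A : Subgroup G, P.Normal ∧ A.Normal ∧ IsPGroup p P ∧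
        (∀ a ∈ A, ∀ b ∈ A, a * b = b * a) ∧ P ⊓ A = ⊥ ∧ P ⊔ A = ⊤ := by
  classical
  obtain ⟨O, hO, hab, hcop, hnil⟩ := exists_hall_abelian hcd
  haveI := hO
  haveI := hnil
  have hm0 : m ≠ 0 := by
    obtain ⟨χ, hχ⟩ := hm
    have := charDegree_pos_of_irr χ.2
    omega
  by_cases hC : Subgroup.centralizer (O : Set G) = ⊤
  · right
    have hGnil : Group.IsNilpotent G := by
      apply of_quotient_center_nilpotent
      have hOZ : O ≤ Subgroup.center G := by
        intro a ha
        rw [Subgroup.mem_center_iff]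
        intro g
        have h1 : g ∈ Subgroup.centralizer (O : Set G) := by
          rw [hC]
          exact Subgroup.mem_top g
        exact (Subgroup.mem_centralizer_iff.mp h1 a ha).symm
      let f : G ⧸ O →* G ⧸ Subgroup.center G := QuotientGroup.map O _ (MonoidHom.id G) (by
        intro a ha
        exact hOZ ha)
      refine nilpotent_of_surjective f ?_
      intro q
      obtain ⟨g, rfl⟩ := QuotientGroup.mk_surjective q
      exact ⟨QuotientGroup.mk g, rfl⟩
    exact two_deg_nilp hcd hm hm1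
  · left
    obtain ⟨h1, h2, h3⟩ := two_deg_core hO hab hcop hnil hm0 hcd hC
    exact ⟨_, Subgroup.normal_centralizer, h1, h2, h3⟩

/-- The retraction onto the first factor of an internal direct product. -/
theorem exists_retraction {P A : Subgroup G} [hA : A.Normal] (hd : P ⊓ A = ⊥) (hs : P ⊔ A = ⊤) :
    ∃ φ : G →* P, (∀ x : P, φ x = x) ∧ ∀ a ∈ A, φ a = 1 := by
  classical
  let f₀ : P →* G ⧸ A := (QuotientGroup.mk' A).comp P.subtype
  have hf₀i : Function.Injective f₀ := by
    rw [injective_iff_map_eq_one]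
    intro x hx
    have h1 : (x : G) ∈ A := (QuotientGroup.eq_one_iff _).mp hx
    have h2 : (x : G) ∈ P ⊓ A := ⟨x.2, h1⟩
    rw [hd, Subgroup.mem_bot] at h2
    exact Subtype.ext h2
  have hf₀s : Function.Surjective f₀ := by
    intro q
    obtain ⟨g, rfl⟩ := QuotientGroup.mk_surjective q
    have h1 : g ∈ P ⊔ A := by
      rw [hs]
      exact Subgroup.mem_top g
    obtain ⟨y, hy, z, hz, rfl⟩ := Subgroup.mem_sup_of_normal_right.mp h1
    refine ⟨⟨y, hy⟩, ?_⟩
    have h2 : ((y * z : G) : G ⧸ A) = (y : G ⧸ A) := by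
      rw [QuotientGroup.mk_mul, (QuotientGroup.eq_one_iff z).mpr hz, mul_one]
    rw [h2]
    rfl
  let e : P ≃* G ⧸ A := MulEquiv.ofBijective f₀ ⟨hf₀i, hf₀s⟩
  refine ⟨e.symm.toMonoidHom.comp (QuotientGroup.mk' A), ?_, ?_⟩
  · intro x
    exact e.symm_apply_apply x
  · intro a ha
    have h1 : QuotientGroup.mk' A a = 1 := (QuotientGroup.eq_one_iff a).mpr ha
    show e.symm (QuotientGroup.mk' A a) = 1
    rw [h1, map_one]

end Main

end Cfsg.Agent.Lib.Coprime
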