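import Mathlib
import Cfsg.Agent.Lib.ClassSizes.Basic

/-!
# Frobenius' theorem on the number of solutions of `x ^ n = 1`

Proof of Isaacs and Robinson: descend along `n`, peeling one prime at a time.
-/

set_option autoImplicit false

namespace Cfsg.Agent.Lib.Coprime

open Subgroup Finset

universe u

section Sums

/-- Sum over the classes of a setoid. -/
theorem dvd_sum_of_setoid {α : Type*} [DecidableEq α] (s : Finset α) (r : Setoid α)
    [DecidableRel r.r] (f : α → ℕ) (M : ℕ)
    (hconst : ∀ x ∈ s, ∀ y ∈ s, r.r y x → f y = f x)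
    (h : ∀ x ∈ s, M ∣ (s.filter fun y => r.r y x).card * f x) : M ∣ ∑ x ∈ s, f x := by
  classical
  rw [Finset.sum_partition r]
  apply Finset.dvd_sum
  intro xbar hxbar
  obtain ⟨x, hx, rfl⟩ := Finset.mem_image.mp hxbar
  have hmem : ∀ y, (Quotient.mk r y = Quotient.mk r x) ↔ r.r y x := fun y => Quotient.eq
  have h1 : (s.filter fun y => Quotient.mk r y = Quotient.mk r x) = s.filter fun y => r.r y x := by
    ext y
    simp only [Finset.mem_filter, hmem]
  rw [h1]
  have h2 : ∀ y ∈ s.filter (fun y => r.r y x), f y = f x := by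
    intro y hy
    obtain ⟨hy1, hy2⟩ := Finset.mem_filter.mp hy
    exact hconst x hx y hy1 hy2
  rw [Finset.sum_congr rfl h2, Finset.sum_const, smul_eq_mul]
  exact h x hx

end Sums

section Central

variable {H : Type*} [Group H] [Finite H]

/-- Solutions of `x ^ m = 1` are unchanged modulo a central subgroup of order prime to `m`. -/
theorem card_sol_quotient_central (T : Subgroup H) [T.Normal] (hT : T ≤ center H) (m : ℕ)
    (hcop : (Nat.card T).Coprime m) :
    Nat.card {x : H // x ^ m = 1} = Nat.card {x : H ⧸ T // x ^ m = 1} := by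
  classical
  have hpow : ∀ c ∈ T, c ^ m = 1 → c = 1 := by
    intro c hc hcm
    have h1 : orderOf (⟨c, hc⟩ : T) ∣ Nat.card T := orderOf_dvd_natCard _
    have h2 : orderOf (⟨c, hc⟩ : T) ∣ m := orderOf_dvd_of_pow_eq_one (Subtype.ext (by simpa using hcm))
    have h3 : orderOf (⟨c, hc⟩ : T) = 1 := Nat.Coprime.eq_one_of_dvd (Nat.Coprime.coprime_dvd_left h1 hcop) h2
    have := orderOf_eq_one_iff.mp h3
    exact congrArg Subtype.val this
  have hcomm : ∀ c ∈ T, ∀ x : H, x * c = c * x := by
    intro c hc x
    exact ((mem_center_iff.mp (hT hc)) x)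
  let φ : {x : H // x ^ m = 1} → {x : H ⧸ T // x ^ m = 1} := fun x =>
    ⟨(x.1 : H ⧸ T), by rw [← QuotientGroup.mk_pow, x.2]; rfl⟩
  refine Nat.card_congr (Equiv.ofBijective φ ⟨?_, ?_⟩)
  · rintro ⟨x, hx⟩ ⟨y, hy⟩ hxy
    have h1 : (x : H ⧸ T) = y := congrArg Subtype.val hxy
    have h2 : x⁻¹ * y ∈ T := QuotientGroup.eq.mp h1
    have h3 : (x⁻¹ * y) ^ m = 1 := by
      have hc : Commute x⁻¹ y := by
        have h5 : y = x * (x⁻¹ * y) := by group
        show x⁻¹ * y = y * x⁻¹
        conv_rhs => rw [h5]
        rw [mul_assoc, ← hcomm _ h2 x⁻¹]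
        group
      rw [hc.mul_pow, inv_pow, hx, hy, inv_one, mul_one]
    have h4 := hpow _ h2 h3
    apply Subtype.ext
    exact (inv_mul_eq_one.mp h4)
  · rintro ⟨q, hq⟩
    obtain ⟨x, rfl⟩ := QuotientGroup.mk_surjective q
    have h1 : x ^ m ∈ T := by
      rw [← QuotientGroup.eq_one_iff, QuotientGroup.mk_pow]
      exact hq
    -- find a correcting element
    have hbij := powCoprime (G := T) hcop
    obtain ⟨c, hc⟩ := (powCoprime (G := T) hcop).surjective (⟨x ^ m, h1⟩⁻¹ : T)
    have hc2 : (c : H) ^ m = (x ^ m)⁻¹ := by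
      have := congrArg Subtype.val hc
      simpa [powCoprime] using this
    have hcc : Commute x (c : H) := hcomm c c.2 x
    refine ⟨⟨x * c, ?_⟩, ?_⟩
    · rw [hcc.mul_pow, hc2, mul_inv_cancel]
    · apply Subtype.ext
      show ((x * c : H) : H ⧸ T) = x
      rw [QuotientGroup.mk_mul, (QuotientGroup.eq_one_iff (c : H)).mpr c.2, mul_one]

end Central

section Decomp

variable {G : Type u} [Group G] [Fintype G] [DecidableEq G]

/-- Elements of order `p ^ (a + 1)`. -/
noncomputable def orderSet (G : Type u) [Group G] [Fintype G] [DecidableEq G] (N : ℕ) : Finset G :=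
  univ.filter fun y : G => orderOf y = N

open Classical in
/-- Solutions of `z ^ m = 1` commuting with `y`. -/
noncomputable def centSol (m : ℕ) (y : G) : ℕ :=
  (univ.filter fun z : G => Commute z y ∧ z ^ m = 1).card

theorem card_sol_decomp {p a m : ℕ} (hp : p.Prime) (hm : ¬ p ∣ m) :
    (univ.filter fun x : G => x ^ (p ^ (a + 1) * m) = 1).card =
      (univ.filter fun x : G => x ^ (p ^ a * m) = 1).card +
        ∑ y ∈ orderSet G (p ^ (a + 1)), centSol m y := by
  classical
  have hco : (p ^ (a + 1)).Coprime m :=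
    Nat.Coprime.pow_left _ ((Nat.Prime.coprime_iff_not_dvd hp).mpr hm)
  set P := p ^ (a + 1) with hP
  set Q := p ^ a with hQ
  have hPQ : P = Q * p := by rw [hP, hQ, pow_succ]
  obtain ⟨u, hu1, hu2⟩ := Nat.chineseRemainder hco 1 0
  obtain ⟨v, hv1, hv2⟩ := Nat.chineseRemainder hco 0 1
  have hmu : m ∣ u := (Nat.modEq_zero_iff_dvd).mp hu2
  have hPv : P ∣ v := (Nat.modEq_zero_iff_dvd).mp hv1
  have huv : u + v ≡ 1 [MOD P * m] := by
    rw [← Nat.modEq_and_modEq_iff_modEq_mul hco]
    constructor
    · have := hu1.add hv1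
      simpa using this
    · have := hu2.add hv2
      simpa using this
  -- split off the elements with `x ^ (Q * m) = 1`
  have hsplit : (univ.filter fun x : G => x ^ (P * m) = 1) =
      (univ.filter fun x : G => x ^ (Q * m) = 1) ∪
        (univ.filter fun x : G => x ^ (P * m) = 1 ∧ x ^ (Q * m) ≠ 1) := by
    ext x
    simp only [mem_filter, mem_univ, true_and, mem_union]
    constructor
    · intro h
      by_cases h2 : x ^ (Q * m) = 1
      · exact Or.inl h2
      · exact Or.inr ⟨h, h2⟩
    · rintro (h | h)
      · have : P * m = Q * m * p := by rw [hPQ]; ring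
        rw [this, pow_mul, h, one_pow]
      · exact h.1
  have hdisj : Disjoint (univ.filter fun x : G => x ^ (Q * m) = 1)
      (univ.filter fun x : G => x ^ (P * m) = 1 ∧ x ^ (Q * m) ≠ 1) := by
    rw [Finset.disjoint_filter]
    intro x _ h1 h2
    exact h2.2 h1
  rw [hsplit, card_union_of_disjoint hdisj]
  congr 1
  have hsig : ∑ y ∈ orderSet G P, centSol m y =
      ((orderSet G P).sigma fun y => univ.filter fun z : G => Commute z y ∧ z ^ m = 1).card := by
    rw [card_sigma]
    rfl
  rw [hsig]
  refine Finset.card_bij' (fun x _ => ⟨x ^ u, x ^ v⟩) (fun t _ => t.1 * t.2) ?_ ?_ ?_ ?_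
  · intro x hx
    obtain ⟨hx1, hx2⟩ := (mem_filter.mp hx).2
    have hxuv : x ^ u * x ^ v = x := by
      rw [← pow_add, ← pow_mod_orderOf, show (u + v) % orderOf x = 1 % orderOf x from
        Nat.ModEq.of_dvd (orderOf_dvd_of_pow_eq_one hx1) huv, pow_mod_orderOf, pow_one]
    have hy : (x ^ u) ^ P = 1 := by
      obtain ⟨w, rfl⟩ := hmu
      rw [← pow_mul, show m * w * P = P * m * w by ring, pow_mul, hx1, one_pow]
    have hz : (x ^ v) ^ m = 1 := by
      obtain ⟨w, rfl⟩ := hPv
      rw [← pow_mul, show P * w * m = P * m * w by ring, pow_mul, hx1, one_pow]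
    have hcomm : Commute (x ^ v) (x ^ u) := Commute.pow_pow_self x v u
    have hord : orderOf (x ^ u) = P := by
      rw [hP]
      apply orderOf_eq_prime_pow (hp := ⟨hp⟩)
      · intro h
        apply hx2
        conv_lhs => rw [← hxuv]
        rw [(hcomm.symm).mul_pow, pow_mul (x ^ u), h, one_pow, one_mul,
          show Q * m = m * Q by ring, pow_mul (x ^ v), hz, one_pow]
      · exact hy
    simp only [mem_sigma, orderSet, mem_filter, mem_univ, true_and]
    exact ⟨hord, hcomm, hz⟩
  · rintro ⟨y, z⟩ ht
    simp only [mem_sigma, orderSet, mem_filter, mem_univ, true_and] at ht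
    obtain ⟨hy, hc, hz⟩ := ht
    simp only [mem_filter, mem_univ, true_and]
    have hyP : y ^ P = 1 := by rw [← hy]; exact pow_orderOf_eq_one y
    constructor
    · rw [hc.symm.mul_pow, pow_mul y, hyP, one_pow, one_mul, show P * m = m * P by ring, pow_mul z, hz,
        one_pow]
    · rw [hc.symm.mul_pow, show Q * m = m * Q by ring, pow_mul z, hz, one_pow, mul_one]
      intro h
      have h1 : P ∣ m * Q := by rw [← hy]; exact orderOf_dvd_of_pow_eq_one h
      rw [hPQ, mul_comm m Q] at h1
      have hQpos : 0 < Q := by rw [hQ]; exact pow_pos hp.pos a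
      exact hm ((Nat.mul_dvd_mul_iff_left hQpos).mp h1)
  · intro x hx
    obtain ⟨hx1, hx2⟩ := (mem_filter.mp hx).2
    show x ^ u * x ^ v = x
    rw [← pow_add, ← pow_mod_orderOf, show (u + v) % orderOf x = 1 % orderOf x from
      Nat.ModEq.of_dvd (orderOf_dvd_of_pow_eq_one hx1) huv, pow_mod_orderOf, pow_one]
  · rintro ⟨y, z⟩ ht
    simp only [mem_sigma, orderSet, mem_filter, mem_univ, true_and] at ht
    obtain ⟨hy, hc, hz⟩ := ht
    have hyu : y ^ u = y := by
      rw [← pow_mod_orderOf, hy, show u % P = 1 % P from hu1, ← hy, pow_mod_orderOf, pow_one]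
    have hzu : z ^ u = 1 := by
      obtain ⟨w, rfl⟩ := hmu
      rw [pow_mul, hz, one_pow]
    have hyv : y ^ v = 1 := by
      obtain ⟨w, rfl⟩ := hPv
      rw [pow_mul, ← hy, pow_orderOf_eq_one, one_pow]
    have hzv : z ^ v = z := by
      have hzm : orderOf z ∣ m := orderOf_dvd_of_pow_eq_one hz
      rw [← pow_mod_orderOf, show v % orderOf z = 1 % orderOf z from Nat.ModEq.of_dvd hzm hv2,
        pow_mod_orderOf, pow_one]
    show (⟨(y * z) ^ u, (y * z) ^ v⟩ : Σ _ : G, G) = ⟨y, z⟩
    rw [hc.symm.mul_pow, hc.symm.mul_pow, hyu, hzu, hyv, hzv, mul_one, one_mul]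

theorem centSol_eq_of_zpowers_eq (m : ℕ) {y y' : G} (h : zpowers y' = zpowers y) :
    centSol m y' = centSol m y := by
  classical
  unfold centSol
  congr 1
  ext z
  simp only [mem_filter, mem_univ, true_and]
  have key : ∀ a b : G, zpowers a = zpowers b → Commute z a → Commute z b := by
    intro a b hab hz
    have hb : b ∈ zpowers a := hab ▸ mem_zpowers b
    obtain ⟨k, rfl⟩ := mem_zpowers_iff.mp hb
    exact hz.zpow_right k
  exact ⟨fun ⟨h1, h2⟩ => ⟨key _ _ h h1, h2⟩, fun ⟨h1, h2⟩ => ⟨key _ _ h.symm h1, h2⟩⟩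

theorem centSol_eq_of_isConj (m : ℕ) {y y' : G} (h : IsConj y y') :
    centSol m y' = centSol m y := by
  classical
  obtain ⟨g, rfl⟩ := isConj_iff.mp h
  unfold centSol
  refine Finset.card_bij (fun z _ => g⁻¹ * z * g) ?_ ?_ ?_
  · intro z hz
    simp only [mem_filter, mem_univ, true_and] at hz ⊢
    obtain ⟨h1, h2⟩ := hz
    constructor
    · have h3 : z * (g * y * g⁻¹) = g * y * g⁻¹ * z := h1
      show g⁻¹ * z * g * y = y * (g⁻¹ * z * g)
      calc g⁻¹ * z * g * y = g⁻¹ * (z * (g * y * g⁻¹)) * g := by group
        _ = g⁻¹ * (g * y * g⁻¹ * z) * g := by rw [h3]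
        _ = y * (g⁻¹ * z * g) := by group
    · have : g⁻¹ * z * g = g⁻¹ * z * g⁻¹⁻¹ := by simp
      rw [this, conj_pow, h2]
      group
  · intro a _ b _ hab
    exact mul_left_cancel (mul_right_cancel hab)
  · intro z hz
    simp only [mem_filter, mem_univ, true_and] at hz
    obtain ⟨h1, h2⟩ := hz
    refine ⟨g * z * g⁻¹, ?_, by group⟩
    simp only [mem_filter, mem_univ, true_and]
    constructor
    · show g * z * g⁻¹ * (g * y * g⁻¹) = g * y * g⁻¹ * (g * z * g⁻¹)
      have h3 : z * y = y * z := h1
      calc g * z * g⁻¹ * (g * y * g⁻¹) = g * (z * y) * g⁻¹ := by group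
        _ = g * (y * z) * g⁻¹ := by rw [h3]
        _ = _ := by group
    · rw [conj_pow, h2]
      group

/-- The `p`-part of the divisibility: elements generating the same cyclic subgroup. -/
theorem pow_dvd_sum_centSol {p a : ℕ} (hp : p.Prime) (m : ℕ) :
    p ^ a ∣ ∑ y ∈ orderSet G (p ^ (a + 1)), centSol m y := by
  classical
  apply dvd_sum_of_setoid _ (Setoid.ker (fun y : G => zpowers y))
  · intro x _ y _ hxy
    exact centSol_eq_of_zpowers_eq m hxy
  · intro x hx
    have hx' : orderOf x = p ^ (a + 1) := (mem_filter.mp hx).2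
    have hcard : ((orderSet G (p ^ (a + 1))).filter fun y =>
        (Setoid.ker (fun y : G => zpowers y)).r y x).card = Nat.totient (p ^ (a + 1)) := by
      have hdvd : p ^ (a + 1) ∣ Fintype.card (zpowers x) := by
        rw [← Nat.card_eq_fintype_card, Nat.card_zpowers, hx']
      rw [← IsCyclic.card_orderOf_eq_totient hdvd]
      symm
      refine Finset.card_bij (fun t _ => (t : G)) ?_ ?_ ?_
      · intro t ht
        have ht' : orderOf t = p ^ (a + 1) := (mem_filter.mp ht).2
        have ht2 : orderOf (t : G) = p ^ (a + 1) := by rw [Subgroup.orderOf_coe, ht']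
        simp only [mem_filter, orderSet, mem_univ, true_and]
        refine ⟨ht2, ?_⟩
        show zpowers (t : G) = zpowers x
        apply Subgroup.eq_of_le_of_card_ge
        · rw [zpowers_le]; exact t.2
        · rw [Nat.card_zpowers, Nat.card_zpowers, ht2, hx']
      · intro s _ t _ hst
        exact Subtype.ext hst
      · intro y hy
        simp only [mem_filter, orderSet, mem_univ, true_and] at hy
        obtain ⟨hy1, hy2⟩ := hy
        have hy3 : zpowers y = zpowers x := hy2
        have hymem : y ∈ zpowers x := hy3 ▸ mem_zpowers y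
        refine ⟨⟨y, hymem⟩, ?_, rfl⟩
        simp only [mem_filter, mem_univ, true_and]
        rw [← Subgroup.orderOf_coe]
        exact hy1
    rw [hcard, Nat.totient_prime_pow_succ hp, mul_assoc]
    exact dvd_mul_right _ _

end Decomp

section Main

theorem card_sol_eq_filter {G : Type*} [Group G] [Fintype G] [DecidableEq G] (n : ℕ) :
    Nat.card {x : G // x ^ n = 1} = (univ.filter fun x : G => x ^ n = 1).card := by
  rw [Nat.card_eq_fintype_card, Fintype.card_subtype]

/-- The local step for the prime-to-`p` part of the divisibility. -/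
theorem dvd_index_mul_centSol {G : Type u} [Group G] [Fintype G] [DecidableEq G] {p a m : ℕ}
    (hp : p.Prime) (hm : ¬ p ∣ m) (hmG : m ∣ Nat.card G) {y : G} (hy : orderOf y = p ^ (a + 1))
    (IH : ∀ (K : Type u) [Group K] [Finite K], Nat.card K < Nat.card G →
      ∀ d, d ∣ Nat.card K → d ∣ Nat.card {x : K // x ^ d = 1}) :
    m ∣ (centralizer ({y} : Set G)).index * centSol m y := by
  classical
  set H := centralizer ({y} : Set G) with hH
  have hyH : y ∈ H := by
    rw [hH, mem_centralizer_singleton_iff]
  let Y : H := ⟨y, hyH⟩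
  let T : Subgroup H := zpowers Y
  have hTcen : T ≤ center H := by
    rw [zpowers_le, mem_center_iff]
    intro g
    apply Subtype.ext
    have := mem_centralizer_singleton_iff.mp g.2
    exact this
  haveI hTn : T.Normal := by
    refine ⟨fun n hn g => ?_⟩
    have hg : g * n = n * g := (mem_center_iff.mp (hTcen hn)) g
    rw [hg]; simpa using hn
  have hYord : orderOf Y = p ^ (a + 1) := by rw [← Subgroup.orderOf_coe]; exact hy
  have hTcard : Nat.card T = p ^ (a + 1) := by
    rw [Nat.card_zpowers, hYord]
  have hcop : (Nat.card T).Coprime m := by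
    rw [hTcard]
    exact Nat.Coprime.pow_left _ ((Nat.Prime.coprime_iff_not_dvd hp).mpr hm)
  have hsol := card_sol_quotient_central T hTcen m hcop
  have hcent : centSol m y = Nat.card {x : H // x ^ m = 1} := by
    unfold centSol
    rw [Nat.card_eq_fintype_card, Fintype.card_subtype]
    symm
    refine Finset.card_bij (fun z _ => (z : G)) ?_ ?_ ?_
    · intro z hz
      have hz' : z ^ m = 1 := (mem_filter.mp hz).2
      simp only [mem_filter, mem_univ, true_and]
      refine ⟨?_, ?_⟩
      · exact mem_centralizer_singleton_iff.mp z.2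
      · have := congrArg Subtype.val hz'
        simpa using this
    · intro s _ t _ hst
      exact Subtype.ext hst
    · intro z hz
      simp only [mem_filter, mem_univ, true_and] at hz
      obtain ⟨h1, h2⟩ := hz
      refine ⟨⟨z, mem_centralizer_singleton_iff.mpr h1⟩, ?_, rfl⟩
      simp only [mem_filter, mem_univ, true_and]
      apply Subtype.ext
      simpa using h2
  rw [hcent, hsol]
  set Q := H ⧸ T with hQ
  have hQcard : Nat.card T * Nat.card Q = Nat.card H := by
    have := T.card_mul_index
    rwa [Subgroup.index_eq_card] at this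
  have hGcard : Nat.card H * H.index = Nat.card G := H.card_mul_index
  have hQlt : Nat.card Q < Nat.card G := by
    have hT2 : 2 ≤ Nat.card T := by
      rw [hTcard]
      calc 2 ≤ p := hp.two_le
        _ = p ^ 1 := (pow_one p).symm
        _ ≤ p ^ (a + 1) := Nat.pow_le_pow_right hp.pos (by omega)
    have hQpos : 0 < Nat.card Q := Nat.card_pos
    have hIpos : 0 < H.index := Nat.pos_of_ne_zero Subgroup.index_ne_zero_of_finite
    calc Nat.card Q < 2 * Nat.card Q := by omega
      _ ≤ Nat.card T * Nat.card Q := Nat.mul_le_mul_right _ hT2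
      _ = Nat.card H := hQcard
      _ ≤ Nat.card H * H.index := Nat.le_mul_of_pos_right _ hIpos
      _ = Nat.card G := hGcard
  set d := Nat.gcd m (Nat.card Q) with hd
  have hdQ : d ∣ Nat.card Q := Nat.gcd_dvd_right _ _
  have hdm : d ∣ m := Nat.gcd_dvd_left _ _
  have hIH := IH Q hQlt d hdQ
  have hsame : Nat.card {x : Q // x ^ m = 1} = Nat.card {x : Q // x ^ d = 1} := by
    refine Nat.card_congr (Equiv.subtypeEquivRight fun x => ?_)
    constructor
    · intro h
      have h1 : orderOf x ∣ m := orderOf_dvd_of_pow_eq_one h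
      have h2 : orderOf x ∣ Nat.card Q := orderOf_dvd_natCard x
      exact orderOf_dvd_iff_pow_eq_one.mp (Nat.dvd_gcd h1 h2)
    · intro h
      obtain ⟨e, he⟩ := hdm
      rw [he, pow_mul, h, one_pow]
  rw [hsame]
  have h1 : m ∣ Nat.card T * (Nat.card Q * H.index) := by
    rw [← mul_assoc, hQcard, hGcard]
    exact hmG
  have h2 : m ∣ Nat.card Q * H.index := hcop.symm.dvd_of_dvd_mul_left h1
  have h3 : m ∣ d * H.index := Nat.dvd_gcd_mul_iff_dvd_mul.mpr h2
  have h4 : d * H.index ∣ H.index * Nat.card {x : Q // x ^ d = 1} := by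
    rw [mul_comm d]
    exact Nat.mul_dvd_mul_left _ hIH
  exact h3.trans h4

/-- **Frobenius' theorem.** -/
theorem frobenius_count_aux : ∀ (N : ℕ) (G : Type u) [Group G] [Finite G], Nat.card G = N →
    ∀ n, n ∣ N → n ∣ Nat.card {x : G // x ^ n = 1} := by
  intro N
  induction N using Nat.strong_induction_on with
  | _ N ih =>
  intro G _ _ hN
  classical
  haveI := Fintype.ofFinite G
  have hNpos : 0 < N := hN ▸ Nat.card_pos
  have IH : ∀ (K : Type u) [Group K] [Finite K], Nat.card K < Nat.card G →
      ∀ d, d ∣ Nat.card K → d ∣ Nat.card {x : K // x ^ d = 1} := by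
    intro K _ _ hK d hd
    exact ih (Nat.card K) (hN ▸ hK) K rfl d hd
  have inner : ∀ k n, N - n = k → n ∣ N → n ∣ Nat.card {x : G // x ^ n = 1} := by
    intro k
    induction k using Nat.strong_induction_on with
    | _ k ihk =>
    intro n hk hn
    by_cases hnN : n = N
    · subst hnN
      have : Nat.card {x : G // x ^ n = 1} = n := by
        rw [← hN]
        refine Nat.card_congr (Equiv.subtypeUnivEquiv fun x => ?_)
        rw [pow_card_eq_one']
      rw [this]
    · have hnpos : 0 < n := Nat.pos_of_dvd_of_pos hn hNpos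
      obtain ⟨c, hc⟩ := hn
      have hc1 : c ≠ 1 := by
        rintro rfl
        exact hnN (by omega)
      have hp : c.minFac.Prime := Nat.minFac_prime hc1
      set p := c.minFac
      obtain ⟨c', hc'⟩ := Nat.minFac_dvd c
      obtain ⟨a, m, hm, hnm⟩ := Nat.exists_eq_pow_mul_and_not_dvd hnpos.ne' p hp.ne_one
      have hnp : n * p ∣ N := by
        rw [hc, show c = p * c' from hc', ← mul_assoc]
        exact dvd_mul_right _ _
      have hnplt : N - n * p < k := by
        have h2 : n < n * p := by
          have := hp.two_le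
          nlinarith
        have h3 : n * p ≤ N := Nat.le_of_dvd hNpos hnp
        have h4 : n < N := by omega
        omega
      have hstep := ihk _ hnplt (n * p) rfl hnp
      have hdecomp := card_sol_decomp (G := G) (a := a) hp hm
      have hpa : p ^ (a + 1) * m = n * p := by rw [hnm, pow_succ]; ring
      rw [hpa, ← hnm] at hdecomp
      have hmG : m ∣ Nat.card G := by
        rw [hN, hc, hnm]
        exact Dvd.dvd.mul_right (Dvd.intro_left _ rfl) _
      have hd1 := pow_dvd_sum_centSol (G := G) (a := a) hp m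
      have hd2 : m ∣ ∑ y ∈ orderSet G (p ^ (a + 1)), centSol m y := by
        apply dvd_sum_of_setoid _ (IsConj.setoid G)
        · intro x _ y _ hxy
          exact centSol_eq_of_isConj m (IsConj.symm hxy)
        · intro x hx
          have hx' : orderOf x = p ^ (a + 1) := (mem_filter.mp hx).2
          have hcard : ((orderSet G (p ^ (a + 1))).filter fun y =>
              (IsConj.setoid G).r y x).card = (centralizer ({x} : Set G)).index := by
            rw [← Cfsg.Agent.Lib.ClassSizes.card_isConj_eq_index, Nat.card_eq_fintype_card,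
              Fintype.card_subtype]
            congr 1
            ext y
            simp only [mem_filter, orderSet, mem_univ, true_and]
            constructor
            · rintro ⟨-, h⟩
              exact IsConj.symm h
            · intro h
              refine ⟨?_, IsConj.symm h⟩
              rw [← hx']
              obtain ⟨g, rfl⟩ := isConj_iff.mp h
              have := MulEquiv.orderOf_eq (MulAut.conj g) x
              simpa [MulAut.conj_apply] using this
          rw [hcard]
          exact dvd_index_mul_centSol hp hm hmG hx' IH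
      have hcopm : (p ^ a).Coprime m :=
        Nat.Coprime.pow_left _ ((Nat.Prime.coprime_iff_not_dvd hp).mpr hm)
      have hd3 : n ∣ ∑ y ∈ orderSet G (p ^ (a + 1)), centSol m y := by
        rw [hnm]
        exact hcopm.mul_dvd_of_dvd_of_dvd hd1 hd2
      rw [card_sol_eq_filter] at hstep ⊢
      rw [hdecomp] at hstep
      have hstep2 : n ∣ (univ.filter fun x : G => x ^ n = 1).card +
          ∑ y ∈ orderSet G (p ^ (a + 1)), centSol m y := (Dvd.intro _ rfl).trans hstep
      exact (Nat.dvd_add_left hd3).mp hstep2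
  intro n hn
  exact inner _ n rfl hn

/-- **Frobenius' theorem**: if `n` divides the order of `G` then `n` divides the number of solutions of
`x ^ n = 1` in `G`. -/
theorem frobenius_count {G : Type u} [Group G] [Finite G] (n : ℕ) (hn : n ∣ Nat.card G) :
    n ∣ Nat.card {x : G // x ^ n = 1} :=
  frobenius_count_aux _ G rfl n hn

end Main

section Centralizer

/-- Solutions of `x ^ m = 1` in the centralizer of `y`, counted in the centralizer. -/
theorem centSol_eq_card_centralizer {G : Type u} [Group G] [Fintype G] [DecidableEq G] (m : ℕ)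
    (y : G) : centSol m y = Nat.card {x : centralizer ({y} : Set G) // x ^ m = 1} := by
  classical
  unfold centSol
  rw [Nat.card_eq_fintype_card, Fintype.card_subtype]
  symm
  refine Finset.card_bij (fun z _ => (z : G)) ?_ ?_ ?_
  · intro z hz
    have hz' : z ^ m = 1 := (mem_filter.mp hz).2
    simp only [mem_filter, mem_univ, true_and]
    refine ⟨?_, ?_⟩
    · exact mem_centralizer_singleton_iff.mp z.2
    · have := congrArg Subtype.val hz'
      simpa using this
  · intro s _ t _ hst
    exact Subtype.ext hst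
  · intro z hz
    simp only [mem_filter, mem_univ, true_and] at hz
    obtain ⟨h1, h2⟩ := hz
    refine ⟨⟨z, mem_centralizer_singleton_iff.mpr h1⟩, ?_, rfl⟩
    simp only [mem_filter, mem_univ, true_and]
    apply Subtype.ext
    simpa using h2

/-- `m ∣ |G|` divides (class size of `y`) times the number of solutions of `x ^ m = 1` in `C(y)`. -/
theorem dvd_index_mul_centSol_of_dvd {G : Type u} [Group G] [Fintype G] [DecidableEq G] {m : ℕ}
    (hmG : m ∣ Nat.card G) (y : G) :
    m ∣ (centralizer ({y} : Set G)).index * centSol m y := by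
  classical
  set H := centralizer ({y} : Set G) with hH
  rw [centSol_eq_card_centralizer, ← hH]
  have hGcard : Nat.card H * H.index = Nat.card G := H.card_mul_index
  set d := Nat.gcd m (Nat.card H) with hd
  have hdH : d ∣ Nat.card H := Nat.gcd_dvd_right _ _
  have hdm : d ∣ m := Nat.gcd_dvd_left _ _
  have hF := frobenius_count (G := H) d hdH
  have hsame : Nat.card {x : H // x ^ m = 1} = Nat.card {x : H // x ^ d = 1} := by
    refine Nat.card_congr (Equiv.subtypeEquivRight fun x => ?_)
    constructor
    · intro h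
      have h1 : orderOf x ∣ m := orderOf_dvd_of_pow_eq_one h
      have h2 : orderOf x ∣ Nat.card H := orderOf_dvd_natCard x
      exact orderOf_dvd_iff_pow_eq_one.mp (Nat.dvd_gcd h1 h2)
    · intro h
      obtain ⟨e, he⟩ := hdm
      rw [he, pow_mul, h, one_pow]
  rw [hsame]
  have h2 : m ∣ Nat.card H * H.index := by rw [hGcard]; exact hmG
  have h3 : m ∣ d * H.index := Nat.dvd_gcd_mul_iff_dvd_mul.mpr h2
  have h4 : d * H.index ∣ H.index * Nat.card {x : H // x ^ d = 1} := by
    rw [mul_comm d]
    exact Nat.mul_dvd_mul_left _ hF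
  exact h3.trans h4

end Centralizer

end Cfsg.Agent.Lib.Coprime
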