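import Mathlib
import Cfsg.Agent.Lib.ClassSizes.Kazarin

/-!
# Consequences of Kazarin's theorem
-/

set_option autoImplicit false

namespace Cfsg.Agent.Lib.Coprime

open Subgroup Cfsg

universe u

section Kaz

variable {G : Type u} [Group G] [Finite G]

/-- Class size as index of the centralizer. -/
theorem index_centralizer_eq_ncard (x : G) :
    (centralizer ({x} : Set G)).index = (ConjClasses.mk x).carrier.ncard := by
  rw [← Cfsg.Agent.Lib.ClassSizes.card_isConj_eq_index, ← Nat.card_coe_set_eq]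
  refine Nat.card_congr (Equiv.subtypeEquivRight fun y => ?_)
  rw [ConjClasses.mem_carrier_iff_mk_eq, ConjClasses.mk_eq_mk_iff_isConj]
  exact ⟨fun h => h.symm, fun h => h.symm⟩

/-- If the class of `x` has `p`-power size, then the normal closure of `x` is abelian modulo `O_p(G)`:
any two of its elements commute modulo `O_p(G)`. -/
theorem comm_mem_pCore_of_mem_normalClosure {p : ℕ} [hp : Fact p.Prime] (x : G) {a : ℕ}
    (ha : (centralizer ({x} : Set G)).index = p ^ a) {u v : G}
    (hu : u ∈ normalClosure ({x} : Set G)) (hv : v ∈ normalClosure ({x} : Set G)) :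
    u * v * u⁻¹ * v⁻¹ ∈ pCore p G := by
  set O := pCore p G
  have hcomm : ∀ y ∈ ((QuotientGroup.mk' O) '' Group.conjugatesOfSet ({x} : Set G)),
      ∀ z ∈ ((QuotientGroup.mk' O) '' Group.conjugatesOfSet ({x} : Set G)), y * z = z * y := by
    rintro y ⟨y', hy', rfl⟩ z ⟨z', hz', rfl⟩
    have hy2 : IsConj x y' := by
      rw [Group.mem_conjugatesOfSet_iff] at hy'
      obtain ⟨t, ht, h⟩ := hy'
      rwa [Set.mem_singleton_iff.mp ht] at h
    have hz2 : IsConj x z' := by
      rw [Group.mem_conjugatesOfSet_iff] at hz'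
      obtain ⟨t, ht, h⟩ := hz'
      rwa [Set.mem_singleton_iff.mp ht] at h
    obtain ⟨g, rfl⟩ := isConj_iff.mp hy2
    obtain ⟨h, rfl⟩ := isConj_iff.mp hz2
    have hk := Cfsg.Agent.Lib.ClassSizes.comm_mem_pCore_of_index_eq (p := p) x ha g h
    have : ((g * x * g⁻¹ * (h * x * h⁻¹) * (g * x * g⁻¹)⁻¹ * (h * x * h⁻¹)⁻¹ : G) : G ⧸ O) = 1 :=
      (QuotientGroup.eq_one_iff _).mpr hk
    simp only [QuotientGroup.mk'_apply]
    have h2 : ((g * x * g⁻¹ : G) : G ⧸ O) * ((h * x * h⁻¹ : G) : G ⧸ O) *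
        ((g * x * g⁻¹ : G) : G ⧸ O)⁻¹ * ((h * x * h⁻¹ : G) : G ⧸ O)⁻¹ = 1 := this
    calc ((g * x * g⁻¹ : G) : G ⧸ O) * ((h * x * h⁻¹ : G) : G ⧸ O)
        = (((g * x * g⁻¹ : G) : G ⧸ O) * ((h * x * h⁻¹ : G) : G ⧸ O) *
            ((g * x * g⁻¹ : G) : G ⧸ O)⁻¹ * ((h * x * h⁻¹ : G) : G ⧸ O)⁻¹) *
            (((h * x * h⁻¹ : G) : G ⧸ O) * ((g * x * g⁻¹ : G) : G ⧸ O)) := by group
      _ = _ := by rw [h2, one_mul]
  have hle : ∀ y ∈ (normalClosure ({x} : Set G)).map (QuotientGroup.mk' O),
      ∀ z ∈ (normalClosure ({x} : Set G)).map (QuotientGroup.mk' O), y * z = z * y := by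
    rw [normalClosure, MonoidHom.map_closure]
    intro y hy z hz
    have h1 : closure ((QuotientGroup.mk' O) '' Group.conjugatesOfSet ({x} : Set G)) ≤
        centralizer (closure ((QuotientGroup.mk' O) '' Group.conjugatesOfSet ({x} : Set G)) : Set (G ⧸ O)) := by
      rw [closure_le]
      intro s hs
      rw [SetLike.mem_coe, mem_centralizer_iff]
      intro t ht
      have h2 : closure ((QuotientGroup.mk' O) '' Group.conjugatesOfSet ({x} : Set G)) ≤
          centralizer {s} := by
        rw [closure_le]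
        intro w hw
        rw [SetLike.mem_coe, mem_centralizer_singleton_iff]
        exact hcomm w hw s hs
      have := h2 ht
      rw [mem_centralizer_singleton_iff] at this
      exact this
    have := h1 hz
    rw [mem_centralizer_iff] at this
    exact (this y hy).symm ▸ rfl
  have huv := hle _ (mem_map_of_mem _ hu) _ (mem_map_of_mem _ hv)
  rw [← QuotientGroup.eq_one_iff]
  simp only [QuotientGroup.mk'_apply] at huv
  simp only [QuotientGroup.mk_mul, QuotientGroup.mk_inv]
  rw [huv]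
  group

/-- **Kazarin**: the normal closure of an element with a class of prime-power size is solvable. -/
theorem isSolvable_normalClosure_of_index_eq {p : ℕ} (hp : p.Prime) (x : G) {a : ℕ}
    (ha : (centralizer ({x} : Set G)).index = p ^ a) :
    Group.IsSolvable (normalClosure ({x} : Set G)) := by
  haveI : Fact p.Prime := ⟨hp⟩
  set N := normalClosure ({x} : Set G)
  set O := pCore p G
  let f : N →* G ⧸ O := (QuotientGroup.mk' O).comp N.subtype
  have hab : ∀ u v : f.range, u * v = v * u := by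
    rintro ⟨_, ⟨u, rfl⟩⟩ ⟨_, ⟨v, rfl⟩⟩
    apply Subtype.ext
    have h := comm_mem_pCore_of_mem_normalClosure (p := p) x ha u.2 v.2
    have h2 := (QuotientGroup.eq_one_iff _).mpr h
    simp only [QuotientGroup.mk_mul, QuotientGroup.mk_inv] at h2
    show ((u : G) : G ⧸ O) * ((v : G) : G ⧸ O) = ((v : G) : G ⧸ O) * ((u : G) : G ⧸ O)
    calc ((u : G) : G ⧸ O) * ((v : G) : G ⧸ O)
        = (((u : G) : G ⧸ O) * ((v : G) : G ⧸ O) * ((u : G) : G ⧸ O)⁻¹ * ((v : G) : G ⧸ O)⁻¹) *
            (((v : G) : G ⧸ O) * ((u : G) : G ⧸ O)) := by group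
      _ = _ := by rw [h2, one_mul]
  haveI hs2 : Group.IsSolvable f.range := isSolvable_of_comm hab
  have hpg : IsPGroup p f.ker := by
    have hO : IsPGroup p O := Cfsg.Agent.Lib.Core.pCore_isPGroup p G
    intro ⟨u, hu⟩
    have hu2 : (u : G) ∈ O := (QuotientGroup.eq_one_iff _).mp hu
    obtain ⟨k, hk⟩ := hO ⟨(u : G), hu2⟩
    refine ⟨k, ?_⟩
    apply Subtype.ext
    apply Subtype.ext
    have := congrArg Subtype.val hk
    simpa using this
  haveI hs1 : Group.IsSolvable f.ker := by
    haveI := hpg.isNilpotent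
    infer_instance
  exact Group.isSolvable_of_ker_le_range f.ker.subtype f.rangeRestrict (by
    intro u hu
    refine ⟨⟨u, ?_⟩, rfl⟩
    have := (MonoidHom.mem_ker).mp hu
    rw [MonoidHom.mem_ker]
    exact congrArg Subtype.val this)

end Kaz

end Cfsg.Agent.Lib.Coprime
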